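import Groth.Agent.L13.LocalPair.Pair
import Groth.Agent.L13.ModPair.ValPoint
import Mathlib.RingTheory.Flat.TorsionFree
import Groth.Prelude.Def_Curves
import Mathlib.AlgebraicGeometry.Morphisms.Finite
import Mathlib.RingTheory.AdjoinRoot
import Mathlib.RingTheory.Polynomial.ScaleRoots
import Mathlib.RingTheory.Flat.FaithfullyFlat.Basic
import Mathlib.FieldTheory.IsAlgClosed.Basic

/-! Modulus pairs local for finite coverings, and absolutely integrally closed rings. -/

set_option autoImplicit false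

universe u

open CategoryTheory CategoryTheory.Limits AlgebraicGeometry TopologicalSpace Opposite Polynomial

namespace Groth.L13.LocalPair

open Groth.L22 Groth.L13.MP

theorem isAIC_of_surjective {R S : Type u} [CommRing R] [CommRing S] (φ : R →+* S)
    (hφ : Function.Surjective φ) (h : Curves.IsAIC R) : Curves.IsAIC S := by
  intro f hf hd
  obtain ⟨g, hg, hdeg, hgm⟩ := lifts_and_natDegree_eq_and_monic
    ((mem_lifts f).2 (map_surjective φ hφ f)) hf
  obtain ⟨r, hr⟩ := h g hgm (hdeg ▸ hd)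
  exact ⟨φ r, by rw [← hg, eval_map, eval₂_at_apply, hr, map_zero]⟩

theorem isAIC_of_isLocalization {R : Type u} (S : Type u) [CommRing R] [CommRing S] [Algebra R S]
    (M : Submonoid R) [IsLocalization M S] (h : Curves.IsAIC R) : Curves.IsAIC S := by
  intro f hf hd
  obtain ⟨b, hb⟩ := IsLocalization.exist_integer_multiples M (Finset.range f.natDegree) f.coeff
  let s : S := algebraMap R S (b : R)
  have hl : f.scaleRoots s ∈ Polynomial.lifts (algebraMap R S) := by
    rw [lifts_iff_coeff_lifts]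
    intro i
    rw [coeff_scaleRoots]
    rcases lt_trichotomy i f.natDegree with hi | hi | hi
    · obtain ⟨a, ha⟩ := hb i (Finset.mem_range.2 hi)
      refine ⟨a * (b : R) ^ (f.natDegree - i - 1), ?_⟩
      rw [map_mul, map_pow, ha, Algebra.smul_def,
        show f.natDegree - i = (f.natDegree - i - 1) + 1 by omega, pow_succ]
      simp only [add_tsub_cancel_right]
      ring
    · exact ⟨1, by subst hi; rw [hf.coeff_natDegree]; simp⟩
    · exact ⟨0, by rw [coeff_eq_zero_of_natDegree_lt hi]; simp⟩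
  obtain ⟨g, hg, hdeg, hgm⟩ := lifts_and_natDegree_eq_and_monic hl ((monic_scaleRoots_iff s).2 hf)
  obtain ⟨r, hr⟩ := h g hgm (by rw [hdeg, natDegree_scaleRoots]; exact hd)
  have hu : IsUnit s := IsLocalization.map_units S b
  obtain ⟨v, hv⟩ := hu
  refine ⟨(v⁻¹ : Sˣ) * algebraMap R S r, ?_⟩
  have h0 : (f.scaleRoots s).eval (s * ((v⁻¹ : Sˣ) * algebraMap R S r)) = 0 := by
    rw [show s * ((v⁻¹ : Sˣ) * algebraMap R S r) = algebraMap R S r by rw [← hv, Units.mul_inv_cancel_left],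
      ← hg, eval_map, eval₂_at_apply, hr, map_zero]
  rw [scaleRoots_eval_mul] at h0
  exact (IsUnit.mul_right_eq_zero ((IsUnit.pow _ ⟨v, hv⟩))).1 h0

theorem isAlgClosed_of_isAIC {K : Type u} [Field K] (h : Curves.IsAIC K) : IsAlgClosed K :=
  IsAlgClosed.of_exists_root K fun p hp hirr => h p hp hirr.natDegree_pos

/-- roots of monic polynomials over an absolutely integrally closed domain in a larger domain lie in the ring -/
theorem mem_range_of_isAIC {A D : Type u} [CommRing A] [IsDomain A] [CommRing D] [IsDomain D] [Algebra A D]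
    (h : Curves.IsAIC A) : ∀ (n : ℕ) (f : A[X]), f.Monic → f.natDegree = n → ∀ x : D, aeval x f = 0 →
      x ∈ Set.range (algebraMap A D) := by
  intro n
  induction n with
  | zero =>
    intro f hf hd x hx
    rw [hf.natDegree_eq_zero.1 hd, map_one] at hx
    exact absurd hx one_ne_zero
  | succ n ih =>
    intro f hf hd x hx
    obtain ⟨r, hr⟩ := h f hf (hd ▸ Nat.succ_pos n)
    obtain ⟨g, rfl⟩ := dvd_iff_isRoot.2 hr
    have hg : g.Monic := (monic_X_sub_C r).of_mul_monic_left hf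
    rw [map_mul, mul_eq_zero] at hx
    rcases hx with hx | hx
    · exact ⟨r, by rw [map_sub, aeval_X, aeval_C, sub_eq_zero] at hx; exact hx.symm⟩
    · refine ih g hg ?_ x hx
      rw [(monic_X_sub_C r).natDegree_mul hg, natDegree_X_sub_C] at hd
      omega

/-- finite algebras of an absolutely integrally closed domain with a prime over zero have a section -/
theorem exists_section_of_isAIC {A C : Type u} [CommRing A] [IsDomain A] [CommRing C] [Algebra A C]
    [Algebra.IsIntegral A C] (h : Curves.IsAIC A) (P : Ideal C) [P.IsPrime]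
    (hP : P.comap (algebraMap A C) = ⊥) : ∃ σ : C →+* A, σ.comp (algebraMap A C) = RingHom.id A := by
  have hinj : Function.Injective (algebraMap A (C ⧸ P)) := by
    rw [injective_iff_map_eq_zero]
    intro a ha
    rw [IsScalarTower.algebraMap_apply A C (C ⧸ P), Ideal.Quotient.algebraMap_eq,
      Ideal.Quotient.eq_zero_iff_mem] at ha
    exact (Ideal.mem_bot (R := A)).1 (hP ▸ ha)
  have hsurj : Function.Surjective (algebraMap A (C ⧸ P)) := fun x => by
    obtain ⟨c, rfl⟩ := Ideal.Quotient.mk_surjective x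
    obtain ⟨f, hf, hfx⟩ := (Algebra.IsIntegral.isIntegral c : IsIntegral A c).map (Ideal.Quotient.mkₐ A P)
    exact mem_range_of_isAIC h _ f hf rfl _ hfx
  let e := RingEquiv.ofBijective (algebraMap A (C ⧸ P)) ⟨hinj, hsurj⟩
  refine ⟨e.symm.toRingHom.comp (Ideal.Quotient.mk P), RingHom.ext fun a => ?_⟩
  exact e.symm_apply_apply a

/-- locality for finite coverings -/
def FinLocal (P : ModPair.Pair.{u}) : Prop :=
  ∀ (X : ModPair.Pair.{u}) (ι : Type u) (U : ι → ModPair.Pair.{u}) (v : ∀ i, U i ⟶ X),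
    (∀ i, ModPair.IsMinimal (U i).mod X.mod (v i).hom ∧ IsFinite (v i).hom) →
    (∀ x : X.total, ∃ (i : ι) (y : (U i).total), (v i).hom.base y = x) →
    ∀ g : P ⟶ X, ∃ (i : ι) (h : P ⟶ U i), h ≫ v i = g

variable {P : ModPair.Pair.{u}} [IsAffine P.total] [IsLocalRing Γ(P.total, ⊤)]

theorem finLocal [IsDomain Γ(P.total, ⊤)] (h : Curves.IsAIC Γ(P.total, ⊤)) : FinLocal P := by
  intro X ι U v hv hcov g
  let A := Γ(P.total, ⊤)
  let η : Spec A := (⟨⊥, Ideal.isPrime_bot⟩ : PrimeSpectrum A)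
  let G : Spec A ⟶ X.total := P.total.isoSpec.inv ≫ g.hom
  obtain ⟨i, y, hy⟩ := hcov (G η)
  haveI := (hv i).2
  let T := pullback G (v i).hom
  haveI : IsAffine T := isAffine_of_isAffineHom (pullback.fst G (v i).hom)
  let τ : Spec Γ(T, ⊤) ⟶ Spec A := T.isoSpec.inv ≫ pullback.fst G (v i).hom
  obtain ⟨φ, hφ⟩ : ∃ φ, Spec.map φ = τ := ⟨Spec.preimage τ, Spec.map_preimage τ⟩
  haveI : IsFinite τ := inferInstance
  haveI hfinφ : φ.hom.Finite := (IsFinite.SpecMap_iff φ).1 (by rw [hφ]; infer_instance)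
  obtain ⟨z, hz, -⟩ := Scheme.Pullback.exists_preimage_pullback (f := G) (g := (v i).hom) η y hy.symm
  have hz' : (Spec.map φ) (T.isoSpec.hom z) = η := by
    rw [hφ, ← Scheme.Hom.comp_apply]
    show (T.isoSpec.hom ≫ T.isoSpec.inv ≫ pullback.fst G (v i).hom) z = η
    rw [Iso.hom_inv_id_assoc, hz]
  letI := φ.hom.toAlgebra
  haveI : Module.Finite A Γ(T, ⊤) := hfinφ
  obtain ⟨σ, hσ⟩ := exists_section_of_isAIC (A := A) (C := Γ(T, ⊤)) h (T.isoSpec.hom z).asIdeal
    (congrArg PrimeSpectrum.asIdeal hz')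
  have hs : Spec.map (CommRingCat.ofHom σ) ≫ τ = 𝟙 _ := by
    rw [← hφ, ← Spec.map_comp, ← Spec.map_id]
    congr 1
    ext a
    exact RingHom.congr_fun hσ a
  refine ⟨i, ambient_of_minimal (hv i).1 g
    (P.total.isoSpec.hom ≫ Spec.map (CommRingCat.ofHom σ) ≫ T.isoSpec.inv ≫ pullback.snd G (v i).hom) ?_⟩
  simp only [Category.assoc, ← pullback.condition]
  have hs' := congrArg (fun ψ => P.total.isoSpec.hom ≫ ψ ≫ G) hs
  simp only [τ, Category.assoc, Category.id_comp] at hs'
  exact hs'.trans (Iso.hom_inv_id_assoc _ _)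

variable {t : Γ(P.total, ⊤)} (ht : t ∈ nonZeroDivisors Γ(P.total, ⊤))
  (htI : P.mod.ideal ⟨⊤, isAffineOpen_top _⟩ = Ideal.span {t})

include htI in
omit [IsLocalRing Γ(P.total, ⊤)] in
/-- the pair over an algebra in which the modulus stays regular -/
theorem isEffCartier_comap_spec {C : Type u} [CommRing C] (φ : Γ(P.total, ⊤) →+* C) (hC : φ t ∈ nonZeroDivisors C) :
    BlowUp.IsEffCartierIdeal (P.mod.comap (Spec.map (CommRingCat.ofHom φ) ≫ P.total.isoSpec.inv)) := by
  refine isEffCartier_of_top hC ?_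
  rw [Ideals.comap_ideal_top, htI, Ideal.map_span, Set.image_singleton]
  congr 2
  show ((Spec.map (CommRingCat.ofHom φ) ≫ P.total.isoSpec.inv).appTop) t = _
  have h0 : P.total.isoSpec.inv.appTop = (Scheme.ΓSpecIso Γ(P.total, ⊤)).inv := by
    rw [← cancel_epi (Scheme.ΓSpecIso Γ(P.total, ⊤)).hom, Iso.hom_inv_id]
    have h1 : (P.total.isoSpec.inv ≫ P.total.toSpecΓ).appTop = 𝟙 _ := by
      rw [Scheme.isoSpec_inv_toSpecΓ]; rfl
    rwa [Scheme.Hom.comp_appTop, Scheme.toSpecΓ_appTop] at h1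
  rw [Scheme.Hom.comp_appTop, h0]
  exact (ConcreteCategory.congr_hom (Scheme.ΓSpecIso_inv_naturality (CommRingCat.ofHom φ)) t).symm

include htI in
omit [IsLocalRing Γ(P.total, ⊤)] in
/-- sections of finite covering algebras -/
theorem exists_section {κ : Type u} (C : κ → Type u) [∀ i, CommRing (C i)] (φ : ∀ i, Γ(P.total, ⊤) →+* C i)
    (hfin : ∀ i, (φ i).Finite) (hnzd : ∀ i, φ i t ∈ nonZeroDivisors (C i))
    (hcov : ∀ x : PrimeSpectrum Γ(P.total, ⊤), ∃ i, x ∈ Set.range (PrimeSpectrum.comap (φ i)))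
    (h : FinLocal P) : ∃ (i : κ) (σ : C i →+* Γ(P.total, ⊤)), σ.comp (φ i) = RingHom.id _ := by
  let v : ∀ i, Spec (CommRingCat.of (C i)) ⟶ P.total := fun i =>
    Spec.map (CommRingCat.ofHom (φ i)) ≫ P.total.isoSpec.inv
  obtain ⟨i, g, hg⟩ := h P κ (fun i => ⟨_, P.mod.comap (v i), isEffCartier_comap_spec htI (φ i) (hnzd i)⟩)
    (fun i => ⟨v i, le_refl _⟩) (fun i => ⟨rfl, by
      haveI : IsFinite (Spec.map (CommRingCat.ofHom (φ i))) := (IsFinite.SpecMap_iff _).2 (hfin i)
      exact inferInstanceAs (IsFinite (Spec.map (CommRingCat.ofHom (φ i)) ≫ P.total.isoSpec.inv))⟩)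
    (fun x => by
      obtain ⟨i, z, hz⟩ := hcov (P.total.isoSpec.hom x)
      refine ⟨i, z, ?_⟩
      show P.total.isoSpec.inv ((Spec.map (CommRingCat.ofHom (φ i))) z) = x
      rw [show (Spec.map (CommRingCat.ofHom (φ i))) z = P.total.isoSpec.hom x from hz, ← Scheme.Hom.comp_apply,
        Iso.hom_inv_id]
      rfl) (𝟙 P)
  have hg' : g.hom ≫ v i = 𝟙 _ := congrArg ModPair.Pair.Hom.hom hg
  obtain ⟨σ, hσ⟩ : ∃ σ, Spec.map σ = P.total.isoSpec.inv ≫ g.hom := ⟨Spec.preimage _, Spec.map_preimage _⟩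
  refine ⟨i, σ.hom, ?_⟩
  have h1 : Spec.map (CommRingCat.ofHom (φ i) ≫ σ) = Spec.map (𝟙 _) := by
    rw [Spec.map_comp, hσ, Spec.map_id, ← cancel_mono P.total.isoSpec.inv, Category.id_comp, Category.assoc,
      Category.assoc, show g.hom ≫ Spec.map (CommRingCat.ofHom (φ i)) ≫ P.total.isoSpec.inv = 𝟙 _ from hg',
      Category.comp_id]
  exact congrArg CommRingCat.Hom.hom (Spec.map_injective h1)

include ht htI in
theorem FinLocal.isDomain (h : FinLocal P) : IsDomain Γ(P.total, ⊤) := by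
  let A := Γ(P.total, ⊤)
  obtain ⟨⟨p, hp⟩, σ, hσ⟩ := exists_section htI (κ := {p : Ideal A // p ∈ minimalPrimes A})
    (fun p => A ⧸ p.1) (fun p => Ideal.Quotient.mk p.1)
    (fun p => RingHom.Finite.of_surjective _ Ideal.Quotient.mk_surjective)
    (fun p => by
      haveI := p.2.1.1
      refine mem_nonZeroDivisors_of_ne_zero fun h0 => ?_
      exact Set.disjoint_left.1 (Ideal.disjoint_nonZeroDivisors_of_mem_minimalPrimes p.2)
        (Ideal.Quotient.eq_zero_iff_mem.1 h0) ht)
    (fun x => by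
      obtain ⟨p, hp, hle⟩ := Ideal.exists_minimalPrimes_le (I := (⊥ : Ideal A)) (J := x.asIdeal) bot_le
      refine ⟨⟨p, hp⟩, ?_⟩
      rw [range_comap_of_surjective _ _ Ideal.Quotient.mk_surjective, Ideal.mk_ker]
      exact hle) h
  haveI := hp.1.1
  exact Function.Injective.isDomain (Ideal.Quotient.mk p)
    (Function.LeftInverse.injective fun a => RingHom.congr_fun hσ a)

include ht htI in
theorem FinLocal.isAIC (h : FinLocal P) : Curves.IsAIC Γ(P.total, ⊤) := by
  intro f hf hd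
  haveI := hf.free_adjoinRoot
  haveI := hf.finite_adjoinRoot
  haveI : Nontrivial (AdjoinRoot f) :=
    ⟨_, 0, (AdjoinRoot.powerBasis' hf).basis.ne_zero ⟨0, hd⟩⟩
  haveI : Module.FaithfullyFlat Γ(P.total, ⊤) (AdjoinRoot f) := inferInstance
  obtain ⟨-, σ, hσ⟩ := exists_section htI (κ := PUnit.{u+1}) (fun _ => AdjoinRoot f) (fun _ => AdjoinRoot.of f)
    (fun _ => RingHom.finite_algebraMap.2 (inferInstance : Module.Finite Γ(P.total, ⊤) (AdjoinRoot f)))
    (fun _ => by
      rw [mem_nonZeroDivisors_iff_right]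
      intro c hc
      have h1 : IsSMulRegular (AdjoinRoot f) t := Module.Flat.isSMulRegular_of_nonZeroDivisors ht
      refine h1 (show t • c = t • 0 from ?_)
      rw [smul_zero, Algebra.smul_def, mul_comm]
      exact hc)
    (fun x => ⟨PUnit.unit, PrimeSpectrum.comap_surjective_of_faithfullyFlat x⟩) h
  refine ⟨σ (AdjoinRoot.root f), ?_⟩
  have h1 := congrArg σ (AdjoinRoot.eval₂_root f)
  rw [map_zero, hom_eval₂, hσ] at h1
  exact h1

end Groth.L13.LocalPair
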