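import Groth.Agent.L13.LocalPair.Pair
import Groth.Agent.L13.LocalPair.Aic
import Groth.Agent.L05.Hensel.Homs
import Groth.Prelude.Def_EtBase
import Mathlib.RingTheory.Etale.StandardEtale
import Mathlib.RingTheory.Smooth.Flat
import Mathlib.RingTheory.Unramified.Field
import Mathlib.FieldTheory.IsSepClosed
import Mathlib.Algebra.Polynomial.Taylor
import Mathlib.AlgebraicGeometry.Morphisms.Etale

/-! Modulus pairs local for étale coverings, and henselian local rings. -/

set_option autoImplicit false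

universe u

open CategoryTheory CategoryTheory.Limits AlgebraicGeometry TopologicalSpace Opposite Polynomial
open scoped TensorProduct

namespace Groth.L13.LocalPair

open Groth.L22 Groth.L13.MP

/-- a local ring with the maximal ideal coming from a henselian local subring is henselian -/
theorem henselian_of_maximalIdeal_mem_range {A B : Type u} [CommRing A] [HenselianLocalRing A] [CommRing B]
    [IsLocalRing B] [Algebra A B]
    (hmem : ∀ b ∈ IsLocalRing.maximalIdeal B, b ∈ Set.range (algebraMap A B)) : HenselianLocalRing B := by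
  have hm : ∀ b ∈ IsLocalRing.maximalIdeal B, ∃ a ∈ IsLocalRing.maximalIdeal A, algebraMap A B a = b := by
    intro b hb
    obtain ⟨a, rfl⟩ := hmem b hb
    exact ⟨a, fun hu => hb (hu.map _), rfl⟩
  refine ⟨fun f hf c hc hu => ?_⟩
  obtain ⟨v, hv⟩ := hu
  let e := f.eval c
  let φ := taylor c f
  have hφ0 : φ.coeff 0 = e := by simp [φ, e, taylor_coeff]
  have hφ1 : φ.coeff 1 = v := by simp [φ, hv, taylor_coeff, hasseDeriv_one]
  let n := f.natDegree
  have ha : ∀ j : ℕ, ∃ a ∈ IsLocalRing.maximalIdeal A,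
      algebraMap A B a = φ.coeff (j + 2) * e ^ (j + 1) * ((v⁻¹ : Bˣ) : B) ^ (j + 2) := fun j =>
    hm _ (Ideal.mul_mem_right _ _ (Ideal.mul_mem_left _ _ (Ideal.pow_mem_of_mem _ hc _ (Nat.succ_pos j))))
  choose a ham hab using ha
  let Q : A[X] := X ^ (n + 2) + (X ^ (n + 1) + ∑ j ∈ Finset.range n, C (a j) * X ^ (n - j))
  have hQm : Q.Monic := by
    refine monic_X_pow_add ?_
    refine lt_of_le_of_lt (degree_add_le _ _) (max_lt ?_ ?_)
    · exact lt_of_le_of_lt (degree_X_pow_le _) (WithBot.coe_lt_coe.2 (Nat.lt_succ_self _))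
    · refine lt_of_le_of_lt (degree_sum_le _ _) ((Finset.sup_lt_iff (WithBot.bot_lt_coe _)).2 fun j _ => ?_)
      exact lt_of_le_of_lt (degree_C_mul_X_pow_le _ _) (WithBot.coe_lt_coe.2 (show n - j < n + 2 by omega))
  have hres : (Q.map (IsLocalRing.residue A)) = X ^ (n + 1) * (X + 1) := by
    simp only [Q, Polynomial.map_add, Polynomial.map_pow, Polynomial.map_X, Polynomial.map_sum, Polynomial.map_mul,
      Polynomial.map_C]
    rw [Finset.sum_eq_zero (fun j _ => by rw [(IsLocalRing.residue_eq_zero_iff _).2 (ham j), C_0, zero_mul])]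
    ring
  obtain ⟨z, hz, hz1⟩ := HenselianLocalRing.is_henselian Q hQm (-1) (by
      rw [← IsLocalRing.residue_eq_zero_iff, ← eval₂_at_apply, ← eval_map, hres]
      simp) (by
      rw [← IsLocalRing.residue_ne_zero_iff_isUnit, ← eval₂_at_apply, ← eval_map, ← derivative_map, hres]
      simp)
  have hzu : IsUnit z := by
    by_contra h
    exact (IsLocalRing.maximalIdeal.isMaximal A).ne_top ((Ideal.eq_top_iff_one _).2
      (by simpa using Ideal.sub_mem _ hz1 (show z ∈ IsLocalRing.maximalIdeal A from h)))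
  obtain ⟨z, rfl⟩ := hzu
  let y : B := algebraMap A B ((z⁻¹ : Aˣ) : A)
  have h1 : (1 : B) + y + ∑ j ∈ Finset.range n, algebraMap A B (a j) * y ^ (j + 2) = 0 := by
    have h2 : ((z⁻¹ : Aˣ) : A) ^ (n + 2) * Q.eval (z : A) = 0 := by rw [hz.eq_zero, mul_zero]
    have hz2 : ((z⁻¹ : Aˣ) : A) * z = 1 := z.inv_mul
    simp only [Q, eval_add, eval_pow, eval_X, eval_finsetSum, eval_mul, eval_C, mul_add, Finset.mul_sum] at h2
    have h3 : (1 : A) + ((z⁻¹ : Aˣ) : A) + ∑ j ∈ Finset.range n, a j * ((z⁻¹ : Aˣ) : A) ^ (j + 2) = 0 := by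
      rw [← h2, ← mul_pow, hz2, one_pow, pow_succ _ (n + 1), mul_right_comm, ← mul_pow, hz2, one_pow, one_mul,
        ← add_assoc]
      refine congrArg _ (Finset.sum_congr rfl fun j hj => ?_)
      have hj := Finset.mem_range.1 hj
      calc a j * ((z⁻¹ : Aˣ) : A) ^ (j + 2)
          = a j * (((z⁻¹ : Aˣ) : A) ^ (j + 2) * (((z⁻¹ : Aˣ) : A) * z) ^ (n - j)) := by
            rw [hz2, one_pow, mul_one]
        _ = _ := by
            rw [mul_pow, ← mul_assoc (((z⁻¹ : Aˣ) : A) ^ (j + 2)), ← pow_add,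
              show j + 2 + (n - j) = n + 2 by omega]
            ring
    have h4 := congrArg (algebraMap A B) h3
    simpa only [map_add, map_one, map_zero, map_sum, map_mul, map_pow] using h4
  let x : B := e * y * ((v⁻¹ : Bˣ) : B)
  refine ⟨x + c, ?_, ?_⟩
  · rw [IsRoot, ← taylor_eval]
    change φ.eval x = 0
    rw [eval_eq_sum_range' (n := n + 2) (by simp only [φ, natDegree_taylor]; omega), Finset.sum_range_succ',
      Finset.sum_range_succ']
    have hterm : ∀ j, φ.coeff (j + 1 + 1) * x ^ (j + 1 + 1) = e * (algebraMap A B (a j) * y ^ (j + 2)) := by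
      intro j
      rw [hab]
      simp only [x]
      ring
    rw [Finset.sum_congr rfl (fun j _ => hterm j), ← Finset.mul_sum, hφ0]
    simp only [zero_add, pow_one, pow_zero, mul_one, hφ1, x]
    calc e * ∑ j ∈ Finset.range n, algebraMap A B (a j) * y ^ (j + 2) + (v : B) * (e * y * ((v⁻¹ : Bˣ) : B)) + e
        = e * (1 + ((v : B) * ((v⁻¹ : Bˣ) : B)) * y +
            ∑ j ∈ Finset.range n, algebraMap A B (a j) * y ^ (j + 2)) := by ring
      _ = 0 := by rw [v.mul_inv, one_mul, h1, mul_zero]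
  · rw [add_sub_cancel_right]
    exact Ideal.mul_mem_right _ _ (Ideal.mul_mem_right _ _ hc)

theorem henselian_quotient {A : Type u} [CommRing A] [HenselianLocalRing A] (q : Ideal A) [Nontrivial (A ⧸ q)]
    [IsLocalRing (A ⧸ q)] : HenselianLocalRing (A ⧸ q) := by
  haveI : IsLocalHom (Ideal.Quotient.mk q) := IsLocalHom.of_surjective _ Ideal.Quotient.mk_surjective
  refine ⟨fun f hf c hc hu => ?_⟩
  obtain ⟨g, hg, -, hgm⟩ := lifts_and_natDegree_eq_and_monic
    ((mem_lifts f).2 (map_surjective _ Ideal.Quotient.mk_surjective f)) hf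
  obtain ⟨a, rfl⟩ := Ideal.Quotient.mk_surjective c
  rw [← hg, eval_map, eval₂_at_apply] at hc
  rw [← hg, derivative_map, eval_map, eval₂_at_apply] at hu
  obtain ⟨r, hr, hra⟩ := HenselianLocalRing.is_henselian g hgm a (fun h => hc (h.map _))
    ((isUnit_map_iff (Ideal.Quotient.mk q) _).1 hu)
  refine ⟨Ideal.Quotient.mk q r, by rw [IsRoot, ← hg, eval_map, eval₂_at_apply, hr.eq_zero, map_zero], ?_⟩
  rw [← map_sub]
  exact fun h => hra ((isUnit_map_iff (Ideal.Quotient.mk q) _).1 h)

theorem isStrictlyHenselian_quotient {A : Type u} [CommRing A] [HenselianLocalRing A]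
    [IsSepClosed (IsLocalRing.ResidueField A)] (q : Ideal A) [q.IsPrime] :
    EtCoh.IsStrictlyHenselianLocalRing (A ⧸ q) := by
  haveI : Nontrivial (A ⧸ q) := Ideal.Quotient.nontrivial_iff.2 (Ideal.IsPrime.ne_top ‹_›)
  haveI : IsLocalRing (A ⧸ q) := IsLocalRing.of_surjective' _ Ideal.Quotient.mk_surjective
  haveI : IsLocalHom (Ideal.Quotient.mk q) := IsLocalHom.of_surjective _ Ideal.Quotient.mk_surjective
  haveI := henselian_quotient q
  refine ⟨inferInstance, ?_⟩
  let ρ := IsLocalRing.ResidueField.map (Ideal.Quotient.mk q)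
  let e : IsLocalRing.ResidueField A ≃+* IsLocalRing.ResidueField (A ⧸ q) :=
    RingEquiv.ofBijective ρ ⟨ρ.injective, fun y => by
      obtain ⟨b, rfl⟩ := IsLocalRing.residue_surjective (R := A ⧸ q) y
      obtain ⟨a, rfl⟩ := Ideal.Quotient.mk_surjective b
      exact ⟨IsLocalRing.residue A a, rfl⟩⟩
  refine IsSepClosed.of_exists_root _ fun p hp hirr hsep => ?_
  have hsep' : (p.map e.symm.toRingHom).Separable := hsep.map
  obtain ⟨x, hx⟩ := IsSepClosed.exists_root (p.map e.symm.toRingHom) (by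
    rw [degree_map]; exact (degree_pos_of_irreducible hirr).ne') hsep'
  refine ⟨e x, ?_⟩
  have h := congrArg e hx.eq_zero
  rw [map_zero, eval_map] at h
  rw [← h]
  show _ = e.toRingHom _
  rw [hom_eval₂, show e.toRingHom.comp e.symm.toRingHom = RingHom.id _ from
    RingHom.ext fun y => e.apply_symm_apply y]
  rfl

/-- every étale algebra with a prime over the closed point has a section -/
def HasEtaleSections (A : Type u) [CommRing A] [IsLocalRing A] : Prop :=
  ∀ (C : Type u) [CommRing C] [Algebra A C] [Algebra.Etale A C],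
    (∃ z : PrimeSpectrum C, PrimeSpectrum.comap (algebraMap A C) z = IsLocalRing.closedPoint A) →
      ∃ _σ : C →ₐ[A] A, True

theorem hasEtaleSections {A : Type u} [CommRing A] [HenselianLocalRing A]
    [IsSepClosed (IsLocalRing.ResidueField A)] : HasEtaleSections A := by
  intro C _ _ _ ⟨z, hz⟩
  let k := IsLocalRing.ResidueField A
  letI : Algebra k (k ⊗[A] C) := Algebra.TensorProduct.leftAlgebra
  haveI : Nontrivial (k ⊗[A] C) := by
    haveI := z.isPrime
    have hker : ∀ a ∈ IsLocalRing.maximalIdeal A, algebraMap A (FractionRing (C ⧸ z.asIdeal)) a = 0 := by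
      intro a ha
      rw [IsScalarTower.algebraMap_apply A (C ⧸ z.asIdeal) (FractionRing (C ⧸ z.asIdeal)),
        IsScalarTower.algebraMap_apply A C (C ⧸ z.asIdeal)]
      have : algebraMap A C a ∈ z.asIdeal := by
        have h := congrArg PrimeSpectrum.asIdeal hz
        change z.asIdeal.comap _ = IsLocalRing.maximalIdeal A at h
        rw [← h] at ha
        exact ha
      rw [Ideal.Quotient.algebraMap_eq, Ideal.Quotient.eq_zero_iff_mem.2 this, map_zero]
    let f1 : k →ₐ[A] FractionRing (C ⧸ z.asIdeal) :=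
      Ideal.Quotient.liftₐ _ (Algebra.ofId A _) hker
    exact (Algebra.TensorProduct.lift f1 (IsScalarTower.toAlgHom A C (FractionRing (C ⧸ z.asIdeal)))
      fun _ _ => Commute.all _ _).toRingHom.domain_nontrivial
  obtain ⟨M, hM⟩ := Ideal.exists_maximal (k ⊗[A] C)
  letI : Field ((k ⊗[A] C) ⧸ M) := Ideal.Quotient.field M
  haveI : Algebra.FormallyUnramified k ((k ⊗[A] C) ⧸ M) :=
    Algebra.FormallyUnramified.of_surjective (Ideal.Quotient.mkₐ k M) Ideal.Quotient.mk_surjective
  haveI : Algebra.FiniteType k ((k ⊗[A] C) ⧸ M) :=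
    Algebra.FiniteType.of_surjective (Ideal.Quotient.mkₐ k M) Ideal.Quotient.mk_surjective
  haveI : Algebra.IsSeparable k ((k ⊗[A] C) ⧸ M) := Algebra.FormallyUnramified.isSeparable k _
  let e : k ≃ₐ[k] (k ⊗[A] C) ⧸ M := AlgEquiv.ofBijective (Algebra.ofId _ _)
    ⟨RingHom.injective _, IsSepClosed.algebraMap_surjective k _⟩
  let ψ : C →ₐ[A] k := (e.symm.toAlgHom.restrictScalars A).comp
    (((Ideal.Quotient.mkₐ k M).restrictScalars A).comp Algebra.TensorProduct.includeRight)
  obtain ⟨τ, -, -⟩ := Groth.L05.existsUnique_algHom_lift_etale (R := A) (B := A)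
    (IsLocalRing.maximalIdeal A) (S := C) ψ
  exact ⟨τ, trivial⟩

theorem HasEtaleSections.isStrictlyHenselian {A : Type u} [CommRing A] [IsLocalRing A] (h : HasEtaleSections A) :
    EtCoh.IsStrictlyHenselianLocalRing A := by
  let k := IsLocalRing.ResidueField A
  have key : ∀ (g f : A[X]) (hf : f.Monic), (∀ x : k, aeval x f = 0 → aeval x g ≠ 0 → aeval x f.derivative ≠ 0) →
      ∀ x : k, aeval x f = 0 → aeval x g ≠ 0 → ∃ r : A, f.eval r = 0 ∧ IsUnit (g.eval r) := by
    intro g f hf hsimple x hx hgx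
    let P : StandardEtalePair A := ⟨f, hf, f.derivative * g, g, 0, 1, by ring⟩
    have hP : P.HasMap x := by
      refine ⟨hx, isUnit_iff_ne_zero.2 ?_⟩
      show aeval x (f.derivative * g) ≠ 0
      rw [map_mul]
      exact mul_ne_zero (hsimple x hx hgx) hgx
    let z : PrimeSpectrum P.Ring := PrimeSpectrum.comap (P.lift x hP).toRingHom (⟨⊥, Ideal.isPrime_bot⟩)
    obtain ⟨σ, -⟩ := h P.Ring ⟨z, by
      refine PrimeSpectrum.ext ?_
      change Ideal.comap (algebraMap A P.Ring) (Ideal.comap (P.lift x hP).toRingHom ⊥) = IsLocalRing.maximalIdeal A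
      rw [Ideal.comap_comap, show (P.lift x hP).toRingHom.comp (algebraMap A P.Ring) = algebraMap A k from
        (P.lift x hP).comp_algebraMap]
      exact Ideal.mk_ker⟩
    have hσ := (P.homEquiv σ).2
    refine ⟨σ P.X, ?_, ?_⟩
    · have h1 : aeval (σ P.X) f = 0 := hσ.1
      rwa [coe_aeval_eq_eval] at h1
    · have h1 : IsUnit (aeval (σ P.X) (f.derivative * g)) := hσ.2
      rw [coe_aeval_eq_eval, eval_mul] at h1
      exact isUnit_of_mul_isUnit_right h1
  haveI : HenselianLocalRing A := by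
    refine ⟨fun f hf a ha hu => ?_⟩
    obtain ⟨g, hg⟩ := (dvd_iff_isRoot (p := f - C (f.eval a)) (a := a)).2 (by simp [IsRoot])
    have hfg : f = (X - C a) * g + C (f.eval a) := by rw [← hg, sub_add_cancel]
    have hga : g.eval a = f.derivative.eval a := by
      conv_rhs => rw [hfg]
      simp
    have ha0 : algebraMap A k (f.eval a) = 0 := (IsLocalRing.residue_eq_zero_iff _).2 ha
    have hev : ∀ x : k, aeval x f = (x - algebraMap A k a) * aeval x g := fun x => by
      conv_lhs => rw [hfg]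
      rw [map_add, map_mul, map_sub, aeval_X, aeval_C, aeval_C, ha0, add_zero]
    have hga' : algebraMap A k (g.eval a) ≠ 0 := by
      rw [hga]
      exact IsLocalRing.residue_ne_zero_iff_isUnit _ |>.2 hu
    have haga : aeval (algebraMap A k a) g = algebraMap A k (g.eval a) := by
      rw [aeval_algebraMap_apply, coe_aeval_eq_eval]
    have hroot : aeval (algebraMap A k a) f = 0 := by rw [hev, sub_self, zero_mul]
    obtain ⟨r, hr, hrg⟩ := key g f hf (fun x hx hgx => by
      have hxa : x = algebraMap A k a := by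
        have h2 := hev x
        rw [hx] at h2
        exact sub_eq_zero.1 ((mul_eq_zero.1 h2.symm).resolve_right hgx)
      subst hxa
      rw [aeval_algebraMap_apply, coe_aeval_eq_eval]
      exact IsLocalRing.residue_ne_zero_iff_isUnit _ |>.2 hu) (algebraMap A k a) hroot (haga ▸ hga')
    refine ⟨r, hr, ?_⟩
    have h2 : (r - a) * g.eval r + f.eval a = 0 := by
      conv_rhs => rw [← hr, hfg]
      simp
    have h3 : (r - a) * g.eval r ∈ IsLocalRing.maximalIdeal A := by
      rw [eq_neg_of_add_eq_zero_left h2]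
      exact Ideal.neg_mem_iff _ |>.2 ha
    exact (Ideal.IsPrime.mem_or_mem inferInstance h3).resolve_right fun hh => hh hrg
  refine ⟨inferInstance, IsSepClosed.of_exists_root _ fun p hp hirr hsep => ?_⟩
  obtain ⟨f, hf, -, hfm⟩ := lifts_and_natDegree_eq_and_monic
    ((mem_lifts p).2 (map_surjective _ IsLocalRing.residue_surjective p)) hp
  haveI : Fact (Irreducible p) := ⟨hirr⟩
  -- a point of the special fibre: the residue extension defined by `p`
  let K := AdjoinRoot p
  have hev : aeval (AdjoinRoot.root p) f = 0 := by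
    exact ((aeval_map_algebraMap k (AdjoinRoot.root p) f).symm.trans
      (by rw [show f.map (algebraMap A k) = p from hf]; exact AdjoinRoot.eval₂_root p))
  have hd : aeval (AdjoinRoot.root p) f.derivative ≠ 0 := by
    rw [← aeval_map_algebraMap k, ← derivative_map, show f.map (algebraMap A k) = p from hf]
    exact hsep.aeval_derivative_ne_zero (AdjoinRoot.eval₂_root p)
  let P : StandardEtalePair A := ⟨f, hfm, f.derivative, 1, 0, 1, by ring⟩
  have hP : P.HasMap (AdjoinRoot.root p) := ⟨hev, isUnit_iff_ne_zero.2 hd⟩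
  let z : PrimeSpectrum P.Ring := PrimeSpectrum.comap (P.lift _ hP).toRingHom (⟨⊥, Ideal.isPrime_bot⟩)
  obtain ⟨σ, -⟩ := h P.Ring ⟨z, by
    refine PrimeSpectrum.ext ?_
    change Ideal.comap (algebraMap A P.Ring) (Ideal.comap (P.lift _ hP).toRingHom ⊥) = IsLocalRing.maximalIdeal A
    rw [Ideal.comap_comap, show (P.lift _ hP).toRingHom.comp (algebraMap A P.Ring) = algebraMap A K from
      (P.lift _ hP).comp_algebraMap, IsScalarTower.algebraMap_eq A k K, ← Ideal.comap_comap,
      ← RingHom.ker_eq_comap_bot, (RingHom.injective_iff_ker_eq_bot _).1 (algebraMap k K).injective]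
    exact Ideal.mk_ker⟩
  have hσ : aeval (σ P.X) f = 0 := (P.homEquiv σ).2.1
  refine ⟨IsLocalRing.residue A (σ P.X), ?_⟩
  rw [coe_aeval_eq_eval] at hσ
  rw [← hf, eval_map, eval₂_at_apply, hσ, map_zero]

/-- locality for étale coverings -/
def EtLocal (P : ModPair.Pair.{u}) : Prop :=
  ∀ (X : ModPair.Pair.{u}) (ι : Type u) (U : ι → ModPair.Pair.{u}) (v : ∀ i, U i ⟶ X),
    (∀ i, ModPair.IsMinimal (U i).mod X.mod (v i).hom ∧ Etale (v i).hom ∧
      QuasiCompact (v i).hom ∧ QuasiSeparated (v i).hom) →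
    (∀ x : X.total, ∃ (i : ι) (y : (U i).total), (v i).hom.base y = x) →
    ∀ g : P ⟶ X, ∃ (i : ι) (h : P ⟶ U i), h ≫ v i = g

variable {P : ModPair.Pair.{u}}

theorem EtLocal.zarLocal (h : EtLocal P) : ZarLocal P := by
  intro X ι U v hv hcov g
  refine h X ι U v (fun i => ?_) hcov g
  haveI := (hv i).2.1
  exact ⟨(hv i).1, inferInstance, (hv i).2.2, inferInstance⟩

variable [IsAffine P.total] [IsLocalRing Γ(P.total, ⊤)]

theorem etLocal (hA : HasEtaleSections Γ(P.total, ⊤)) : EtLocal P := by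
  intro X ι U v hv hcov g
  let A := Γ(P.total, ⊤)
  let η : Spec A := IsLocalRing.closedPoint Γ(P.total, ⊤)
  let G : Spec A ⟶ X.total := P.total.isoSpec.inv ≫ g.hom
  obtain ⟨i, y, hy⟩ := hcov (G η)
  haveI := (hv i).2.1
  let T := pullback G (v i).hom
  obtain ⟨z, hz, -⟩ := Scheme.Pullback.exists_preimage_pullback (f := G) (g := (v i).hom) η y hy.symm
  obtain ⟨W, hW, hzW, -⟩ := exists_isAffineOpen_mem_and_subset (x := z) (U := (⊤ : T.Opens)) trivial
  haveI : IsOpenImmersion hW.fromSpec := hW.isOpenImmersion_fromSpec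
  let τ : Spec Γ(T, W) ⟶ Spec A := hW.fromSpec ≫ pullback.fst G (v i).hom
  obtain ⟨φ, hφ⟩ : ∃ φ, Spec.map φ = τ := ⟨Spec.preimage τ, Spec.map_preimage τ⟩
  haveI : Etale τ := inferInstance
  have het : φ.hom.Etale := (HasRingHomProperty.Spec_iff (P := @Etale)).1 (by rw [hφ]; infer_instance)
  letI := φ.hom.toAlgebra
  haveI : Algebra.Etale A Γ(T, W) := het
  obtain ⟨z', hz'⟩ : z ∈ Set.range hW.fromSpec := by rw [hW.range_fromSpec]; exact hzW
  obtain ⟨σ, -⟩ := hA Γ(T, W) ⟨z', by
    show (Spec.map φ) z' = η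
    rw [hφ, Scheme.Hom.comp_apply, hz', hz]⟩
  have hs : Spec.map (CommRingCat.ofHom σ.toRingHom) ≫ τ = 𝟙 _ := by
    rw [← hφ, ← Spec.map_comp, ← Spec.map_id]
    congr 1
    ext a
    exact σ.commutes a
  refine ⟨i, ambient_of_minimal (hv i).1 g
    (P.total.isoSpec.hom ≫ Spec.map (CommRingCat.ofHom σ.toRingHom) ≫ hW.fromSpec ≫ pullback.snd G (v i).hom) ?_⟩
  simp only [Category.assoc, ← pullback.condition]
  have hs' := congrArg (fun ψ => P.total.isoSpec.hom ≫ ψ ≫ G) hs
  simp only [τ, Category.assoc, Category.id_comp] at hs'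
  exact hs'.trans (Iso.hom_inv_id_assoc _ _)

theorem EtLocal.hasEtaleSections {t : Γ(P.total, ⊤)} (ht : t ∈ nonZeroDivisors Γ(P.total, ⊤))
    (htI : P.mod.ideal ⟨⊤, isAffineOpen_top _⟩ = Ideal.span {t}) (h : EtLocal P) :
    HasEtaleSections Γ(P.total, ⊤) := by
  intro C _ _ _ ⟨z, hz⟩
  let v := Spec.map (CommRingCat.ofHom (algebraMap Γ(P.total, ⊤) C)) ≫ P.total.isoSpec.inv
  have hC : algebraMap Γ(P.total, ⊤) C t ∈ nonZeroDivisors C := by
    rw [mem_nonZeroDivisors_iff_right]
    intro c hc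
    refine (Module.Flat.isSMulRegular_of_nonZeroDivisors (M := C) ht) (show t • c = t • 0 from ?_)
    rw [smul_zero, Algebra.smul_def, mul_comm]
    exact hc
  obtain ⟨-, g, hg⟩ := h P PUnit.{u+1} (fun _ => ⟨_, P.mod.comap v, isEffCartier_comap_spec htI _ hC⟩)
    (fun _ => ⟨v, le_refl _⟩) (fun _ => by
      haveI : Etale (Spec.map (CommRingCat.ofHom (algebraMap Γ(P.total, ⊤) C))) :=
        (HasRingHomProperty.Spec_iff (P := @Etale)).2 (RingHom.etale_algebraMap.2 inferInstance)
      exact ⟨rfl, inferInstanceAs (Etale (_ ≫ P.total.isoSpec.inv)),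
        inferInstanceAs (QuasiCompact (_ ≫ P.total.isoSpec.inv)),
        inferInstanceAs (QuasiSeparated (_ ≫ P.total.isoSpec.inv))⟩)
    (fun x => by
      haveI := z.isPrime
      haveI : z.asIdeal.LiesOver (IsLocalRing.maximalIdeal Γ(P.total, ⊤)) :=
        ⟨(congrArg PrimeSpectrum.asIdeal hz).symm⟩
      haveI := (P.total.isoSpec.hom x).isPrime
      obtain ⟨Q, -, hQ, hQx⟩ := Ideal.exists_ideal_le_liesOver_of_le (p := (P.total.isoSpec.hom x).asIdeal)
        z.asIdeal (IsLocalRing.le_maximalIdeal (Ideal.IsPrime.ne_top inferInstance))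
      refine ⟨PUnit.unit, (⟨Q, hQ⟩ : PrimeSpectrum C), ?_⟩
      show P.total.isoSpec.inv ((Spec.map (CommRingCat.ofHom (algebraMap Γ(P.total, ⊤) C))) ⟨Q, hQ⟩) = x
      rw [show (Spec.map (CommRingCat.ofHom (algebraMap Γ(P.total, ⊤) C))) ⟨Q, hQ⟩ = P.total.isoSpec.hom x from
        PrimeSpectrum.ext hQx.over.symm, ← Scheme.Hom.comp_apply, Iso.hom_inv_id]
      rfl) (𝟙 P)
  have hg' : g.hom ≫ v = 𝟙 _ := congrArg ModPair.Pair.Hom.hom hg
  obtain ⟨σ, hσ⟩ : ∃ σ, Spec.map σ = P.total.isoSpec.inv ≫ g.hom := ⟨Spec.preimage _, Spec.map_preimage _⟩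
  have h1 : Spec.map (CommRingCat.ofHom (algebraMap Γ(P.total, ⊤) C) ≫ σ) = Spec.map (𝟙 _) := by
    rw [Spec.map_comp, hσ, Spec.map_id, ← cancel_mono P.total.isoSpec.inv, Category.id_comp, Category.assoc,
      Category.assoc, show g.hom ≫ Spec.map (CommRingCat.ofHom (algebraMap Γ(P.total, ⊤) C)) ≫
        P.total.isoSpec.inv = 𝟙 _ from hg', Category.comp_id]
  have h2 := congrArg CommRingCat.Hom.hom (Spec.map_injective h1)
  exact ⟨{ σ.hom with commutes' := fun a => RingHom.congr_fun h2 a }, trivial⟩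

end Groth.L13.LocalPair
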