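import Groth.Agent.L13.LocalPair.Glue
import Groth.Agent.L13.ModPair.Localized
import Groth.Agent.L13.ModPair.MinimalComp

/-! Modulus pairs that are local for coverings and admissible blow-ups. -/

set_option autoImplicit false

universe u

open CategoryTheory CategoryTheory.Limits AlgebraicGeometry TopologicalSpace Opposite

namespace Groth.L13.LocalPair

open Groth.L22 Groth.L13.MP

variable {X Y : Scheme.{u}}

/-- effective Cartier ideals restrict to opens -/
theorem isEffCartier_comap_open (j : X ⟶ Y) [IsOpenImmersion j] {I : Y.IdealSheafData}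
    (hI : BlowUp.IsEffCartierIdeal I) : BlowUp.IsEffCartierIdeal (I.comap j) := by
  intro x
  obtain ⟨U, hxU, f, -, -, hU⟩ := Ideals.exists_generator hI (j x)
  obtain ⟨_, ⟨V, hV, rfl⟩, hxV, hVU⟩ := X.isBasis_affineOpens.exists_subset_of_mem_open
    (a := x) (show x ∈ j ⁻¹ᵁ U.1 from hxU) (j ⁻¹ᵁ U.1).2
  have hle : j ''ᵁ V ≤ U.1 := fun _ ⟨y, hy, e⟩ => e ▸ hVU hy
  obtain ⟨hg, hgI⟩ := hU ⟨j ''ᵁ V, hV.image_of_isOpenImmersion j⟩ hle
  let e := (j.appIso V).commRingCatIsoToRingEquiv
  refine ⟨⟨V, hV⟩, hxV, e (Y.presheaf.map (homOfLE hle).op f), ?_, ?_⟩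
  · rw [mem_nonZeroDivisors_iff_right] at hg ⊢
    intro a ha
    refine e.symm.map_eq_zero_iff.1 (hg _ ?_)
    simpa using congrArg e.symm ha
  rw [Scheme.IdealSheafData.ideal_comap_of_isOpenImmersion, hgI]
  refine (Ideal.comap_symm (I := Ideal.span _) e).trans ?_
  rw [Ideal.map_span, Set.image_singleton]

/-- locality for Zariski coverings -/
def ZarLocal (P : ModPair.Pair.{u}) : Prop :=
  ∀ (X : ModPair.Pair.{u}) (ι : Type u) (U : ι → ModPair.Pair.{u}) (v : ∀ i, U i ⟶ X),
    (∀ i, ModPair.IsMinimal (U i).mod X.mod (v i).hom ∧ IsOpenImmersion (v i).hom ∧ QuasiCompact (v i).hom) →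
    (∀ x : X.total, ∃ (i : ι) (y : (U i).total), (v i).hom.base y = x) →
    ∀ g : P ⟶ X, ∃ (i : ι) (h : P ⟶ U i), h ≫ v i = g

/-- locality for admissible blow-ups -/
def BlLocal (P : ModPair.Pair.{u}) : Prop :=
  ∀ (Q X : ModPair.Pair.{u}) (q : Q ⟶ X), ModPair.Pair.admBlowup q →
    ∀ g : P ⟶ X, ∃ h : P ⟶ Q, h ≫ q = g

variable {P : ModPair.Pair.{u}}

theorem exists_openCover_eq_top [QuasiSeparatedSpace P.total] (h : ZarLocal P) {ι : Type u}
    (U : ι → P.total.Opens) (hU : ∀ i, IsCompact (U i : Set P.total)) (hcov : ∀ x, ∃ i, x ∈ U i) :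
    ∃ i, U i = ⊤ := by
  have hqc : ∀ i, QuasiCompact (U i).ι := fun i => ⟨fun V hV hVc => by
    refine (U i).ι.isOpenEmbedding.isInducing.isCompact_iff.2 ?_
    rw [Set.image_preimage_eq_inter_range, Scheme.Opens.range_ι]
    exact QuasiSeparatedSpace.inter_isCompact V (U i) hV hVc (U i).2 (hU i)⟩
  obtain ⟨i, g, hg⟩ := h P ι (fun i => ⟨(U i).toScheme, P.mod.comap (U i).ι, isEffCartier_comap_open _ P.isEffCartier⟩)
    (fun i => ⟨(U i).ι, le_refl _⟩) (fun i => ⟨rfl, inferInstanceAs (IsOpenImmersion (U i).ι), hqc i⟩)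
    (fun x => (hcov x).imp fun i hi => ⟨⟨x, hi⟩, rfl⟩) (𝟙 P)
  refine ⟨i, top_le_iff.1 fun x _ => ?_⟩
  have hx : (U i).ι (g.hom x) = x :=
    congrArg (fun φ : P.total ⟶ P.total => φ x) (congrArg ModPair.Pair.Hom.hom hg)
  exact hx ▸ (g.hom x).2

theorem ZarLocal.nonempty [QuasiSeparatedSpace P.total] (h : ZarLocal P) : Nonempty P.total := by
  by_contra hne
  obtain ⟨i, -⟩ := exists_openCover_eq_top h (ι := PEmpty.{u+1}) PEmpty.elim (fun i => i.elim)
    fun x => (hne ⟨x⟩).elim
  exact i.elim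

theorem ZarLocal.isAffine [QuasiSeparatedSpace P.total] (h : ZarLocal P) : IsAffine P.total := by
  choose U hU hxU hle using fun x : P.total =>
    exists_isAffineOpen_mem_and_subset (x := x) (U := (⊤ : P.total.Opens)) trivial
  obtain ⟨x, hx⟩ := exists_openCover_eq_top h U (fun x => (hU x).isCompact) fun x => ⟨x, hxU x⟩
  haveI : IsAffine (U x).toScheme := hU x
  haveI : IsIso (U x).ι := by
    rw [hx]; exact inferInstanceAs (IsIso (Scheme.topIso P.total).hom)
  exact IsAffine.of_isIso (asIso (U x).ι).inv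

theorem ZarLocal.isLocalRing [QuasiSeparatedSpace P.total] (h : ZarLocal P) [IsAffine P.total] :
    IsLocalRing Γ(P.total, ⊤) := by
  haveI := h.nonempty
  haveI : Nontrivial Γ(P.total, ⊤) := by
    obtain ⟨x⟩ := h.nonempty
    exact PrimeSpectrum.nonempty_iff_nontrivial.1 ⟨P.total.isoSpec.hom x⟩
  refine IsLocalRing.of_isUnit_or_isUnit_one_sub_self fun a => ?_
  let f : ULift.{u} Bool → Γ(P.total, ⊤) := fun b => if b.down then a else 1 - a
  obtain ⟨⟨b⟩, hb⟩ := exists_openCover_eq_top h (fun b => P.total.basicOpen (f b))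
    (fun b => ((isAffineOpen_top P.total).basicOpen (f b)).isCompact) fun x => by
    by_cases hx : x ∈ P.total.basicOpen a
    · exact ⟨⟨true⟩, hx⟩
    · refine ⟨⟨false⟩, ?_⟩
      have hx1 : x ∈ P.total.basicOpen (1 : Γ(P.total, ⊤)) := by
        rw [Scheme.basicOpen_of_isUnit _ isUnit_one]; trivial
      rw [P.total.mem_basicOpen_top] at hx hx1
      rw [P.total.mem_basicOpen_top]
      show IsUnit (P.total.presheaf.germ ⊤ x trivial (1 - a))
      rw [map_sub]
      have := IsLocalRing.isUnit_or_isUnit_of_isUnit_add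
        (a := P.total.presheaf.germ ⊤ x trivial a) (b := P.total.presheaf.germ ⊤ x trivial 1 - P.total.presheaf.germ ⊤ x trivial a)
        (by rw [add_sub_cancel]; exact hx1)
      exact this.resolve_left hx
  have hu : IsUnit (f ⟨b⟩) := by
    by_contra hn
    have hle : Ideal.span {f ⟨b⟩} ≠ ⊤ := fun e => hn (Ideal.span_singleton_eq_top.1 e)
    obtain ⟨m, hm, hfm⟩ := Ideal.exists_le_maximal _ hle
    have hy : P.total.isoSpec.inv ⟨m, hm.isPrime⟩ ∈ P.total.basicOpen (f ⟨b⟩) := hb.ge trivial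
    rw [← P.total.toSpecΓ_preimage_basicOpen] at hy
    change P.total.toSpecΓ (P.total.isoSpec.inv ⟨m, hm.isPrime⟩) ∈ PrimeSpectrum.basicOpen _ at hy
    rw [← Scheme.Hom.comp_apply, Scheme.isoSpec_inv_toSpecΓ] at hy
    exact hy (hfm (Ideal.mem_span_singleton_self _))
  cases b
  · exact Or.inr hu
  · exact Or.inl hu

variable (P) [IsAffine P.total] [IsLocalRing Γ(P.total, ⊤)]

/-- the closed point -/
noncomputable def closedPt : P.total := P.total.isoSpec.inv (IsLocalRing.closedPoint Γ(P.total, ⊤))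

omit P in
theorem eq_top_of_mem {P : ModPair.Pair.{u}} [IsAffine P.total] [IsLocalRing Γ(P.total, ⊤)] {U : P.total.Opens}
    (h : closedPt P ∈ U) : U = ⊤ := by
  have h1 : P.total.isoSpec.inv ⁻¹ᵁ U = ⊤ := Scheme.preimage_eq_top_of_closedPoint_mem _ h
  refine top_le_iff.1 fun x _ => ?_
  have h2 : P.total.isoSpec.inv (P.total.isoSpec.hom x) ∈ U := h1.ge trivial
  rwa [← Scheme.Hom.comp_apply, Iso.hom_inv_id] at h2

theorem exists_generator_top :
    ∃ t ∈ nonZeroDivisors Γ(P.total, ⊤), P.mod.ideal ⟨⊤, isAffineOpen_top _⟩ = Ideal.span {t} := by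
  obtain ⟨⟨U, hU⟩, hxU, t, ht, htI⟩ := P.isEffCartier (closedPt P)
  obtain rfl : U = ⊤ := eq_top_of_mem hxU
  exact ⟨t, ht, htI⟩

variable {P} {t : Γ(P.total, ⊤)} (ht : t ∈ nonZeroDivisors Γ(P.total, ⊤))
  (htI : P.mod.ideal ⟨⊤, isAffineOpen_top _⟩ = Ideal.span {t})

include htI in
omit [IsLocalRing Γ(P.total, ⊤)] in
theorem interior_eq : ModPair.interior P.mod = P.total.basicOpen t := by
  rw [← interior_inf_eq_basicOpen htI, top_inf_eq]

include htI in
omit [IsLocalRing Γ(P.total, ⊤)] in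
theorem isAffine_interior : IsAffine (ModPair.interior P.mod).toScheme :=
  (interior_eq htI) ▸ (isAffineOpen_top P.total).basicOpen t

variable (P) in
/-- the global sections of the interior as an algebra over the global sections -/
noncomputable abbrev intAlg : Algebra Γ(P.total, ⊤) Γ((ModPair.interior P.mod : Scheme.{u}), ⊤) :=
  (ModPair.interior P.mod).ι.appTop.hom.toAlgebra

include htI in
omit [IsLocalRing Γ(P.total, ⊤)] in
theorem isLocalization_interior :
    letI := intAlg P; IsLocalization.Away t Γ((ModPair.interior P.mod : Scheme.{u}), ⊤) := by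
  letI := intAlg P
  have key : ∀ (W : P.total.Opens), W = P.total.basicOpen t →
      @IsLocalization.Away _ _ t Γ((W : Scheme.{u}), ⊤) _ W.ι.appTop.hom.toAlgebra := by
    rintro W rfl
    letI := (P.total.basicOpen t).ι.appTop.hom.toAlgebra
    let e : Γ(P.total, P.total.basicOpen t) ≃ₐ[Γ(P.total, ⊤)] Γ((P.total.basicOpen t : Scheme.{u}), ⊤) :=
      AlgEquiv.ofRingEquiv (f := (P.total.basicOpen t).topIso.symm.commRingCatIsoToRingEquiv) fun a => by
        rw [RingHom.algebraMap_toAlgebra, RingHom.algebraMap_toAlgebra]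
        show ((P.total.presheaf.map (homOfLE le_top).op ≫ (P.total.basicOpen t).topIso.inv)) a =
          (P.total.basicOpen t).ι.appTop a
        refine ConcreteCategory.congr_hom ?_ a
        rw [Scheme.Opens.topIso_inv, Scheme.Opens.ι_appTop]
        exact (P.total.presheaf.map_comp _ _).symm.trans (congr_arg P.total.presheaf.map rfl)
    exact IsLocalization.isLocalization_of_algEquiv (Submonoid.powers t) e
  exact key _ (interior_eq htI)

include ht htI in
theorem comparable (h : BlLocal P) : Comparable t := by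
  intro I hI hn
  obtain ⟨n, hn⟩ := hn
  let C : P.total.IdealSheafData := Scheme.IdealSheafData.ofIdealTop I
  have hC0 : C.ideal ⟨⊤, isAffineOpen_top _⟩ = I :=
    (Scheme.IdealSheafData.equivOfIsAffine (X := P.total)).apply_symm_apply I
  have hC : LocFG C := fun x => ⟨⟨⊤, isAffineOpen_top _⟩, trivial, hC0 ▸ hI⟩
  have hle : ModPair.interior P.mod ≤ ModPair.interior C := by
    intro x hx
    rw [interior_eq htI] at hx
    rw [MP.mem_interior, Scheme.IdealSheafData.mem_support_iff_of_mem (U := ⟨⊤, isAffineOpen_top _⟩) trivial, hC0]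
    intro hz
    rw [P.total.mem_zeroLocus_iff] at hz
    refine hz _ hn ?_
    rw [P.total.mem_basicOpen_top] at hx ⊢
    rw [map_pow]
    exact hx.pow n
  obtain ⟨P', s, hs, hE⟩ := exists_admBlowup_effCartier P C hC hle
  obtain ⟨g, hg⟩ := h P' P s hs (𝟙 P)
  have h1 : LocPrinc C := by
    have := LocPrinc.comap hE g.hom
    rw [← Scheme.IdealSheafData.comap_comp] at this
    rwa [show g.hom ≫ s.hom = 𝟙 _ from congrArg ModPair.Pair.Hom.hom hg, Scheme.IdealSheafData.comap_id] at this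
  obtain ⟨⟨U, hU⟩, hxU, c, hc⟩ := h1 (closedPt P)
  obtain rfl : U = ⊤ := eq_top_of_mem hxU
  exact ⟨c, hC0 ▸ hc⟩

omit [IsLocalRing Γ(P.total, ⊤)] in
theorem prime_eq [IsAffine (ModPair.interior P.mod).toScheme]
    [IsLocalRing Γ((ModPair.interior P.mod : Scheme.{u}), ⊤)]
    (p : (ModPair.interior P.mod : Scheme.{u}))
    (hp : IsClosed ({p} : Set (ModPair.interior P.mod : Scheme.{u}))) :
    (P.total.toSpecΓ.base ((ModPair.interior P.mod).ι.base p)).asIdeal =
      (IsLocalRing.maximalIdeal Γ((ModPair.interior P.mod : Scheme.{u}), ⊤)).comap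
        (ModPair.interior P.mod).ι.appTop.hom := by
  have h1 := congrArg (fun φ : (ModPair.interior P.mod : Scheme.{u}) ⟶ Spec Γ(P.total, ⊤) => φ p)
    (Scheme.toSpecΓ_naturality (ModPair.interior P.mod).ι)
  have h2 : (ModPair.interior P.mod).toScheme.isoSpec.hom p = IsLocalRing.closedPoint _ := by
    have hh := (Scheme.homeoOfIso (ModPair.interior P.mod).toScheme.isoSpec).isClosedMap _ hp
    rw [Set.image_singleton] at hh
    exact PrimeSpectrum.ext (IsLocalRing.eq_maximalIdeal ((PrimeSpectrum.isClosed_singleton_iff_isMaximal _).1 hh))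
  change P.total.toSpecΓ ((ModPair.interior P.mod).ι p) =
    (Spec.map (ModPair.interior P.mod).ι.appTop) ((ModPair.interior P.mod).toScheme.isoSpec.hom p) at h1
  rw [h2] at h1
  exact congrArg PrimeSpectrum.asIdeal h1

/-- a map out of `P` sending the closed point into an open lands in it -/
theorem exists_lift_open {U : Scheme.{u}} (v : U ⟶ X) [IsOpenImmersion v] (g : P.total ⟶ X)
    (h : g (closedPt P) ∈ v.opensRange) : ∃ k : P.total ⟶ U, k ≫ v = g := by
  refine ⟨IsOpenImmersion.lift v g ?_, IsOpenImmersion.lift_fac _ _ _⟩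
  rintro _ ⟨x, rfl⟩
  exact ((eq_top_of_mem (U := g ⁻¹ᵁ v.opensRange) h).ge (trivial : x ∈ (⊤ : P.total.Opens)) : _)

theorem ambient_of_minimal {Q R : ModPair.Pair.{u}} {q : Q ⟶ R} (hq : ModPair.IsMinimal Q.mod R.mod q.hom)
    (g : P ⟶ R) (k : P.total ⟶ Q.total) (hk : k ≫ q.hom = g.hom) :
    ∃ h : P ⟶ Q, h ≫ q = g := by
  refine ⟨⟨k, ?_⟩, ModPair.Pair.Hom.ext hk⟩
  show P.mod ≤ Q.mod.comap k
  rw [hq, ← Scheme.IdealSheafData.comap_comp, hk]
  exact g.cond

theorem zarLocal : ZarLocal P := by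
  intro X ι U v hv hcov g
  obtain ⟨i, y, hy⟩ := hcov (g.hom (closedPt P))
  haveI := (hv i).2.1
  obtain ⟨k, hk⟩ := exists_lift_open (v i).hom g.hom ⟨y, hy⟩
  exact ⟨i, ambient_of_minimal (hv i).1 g k hk⟩

include ht htI in
theorem blLocal [IsAffine (ModPair.interior P.mod).toScheme]
    [IsLocalRing Γ((ModPair.interior P.mod : Scheme.{u}), ⊤)]
    (q : Ideal Γ(P.total, ⊤)) [q.IsPrime]
    (hq : q = (IsLocalRing.maximalIdeal Γ((ModPair.interior P.mod : Scheme.{u}), ⊤)).comap
        (ModPair.interior P.mod).ι.appTop.hom)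
    [ValuationRing (Γ(P.total, ⊤) ⧸ q)]
    (hbij : Set.BijOn (algebraMap Γ(P.total, ⊤) (Localization.AtPrime q)) (q : Set Γ(P.total, ⊤))
      (IsLocalRing.maximalIdeal (Localization.AtPrime q) : Set (Localization.AtPrime q))) :
    BlLocal P := by
  intro Q X f hf g
  letI := intAlg P
  haveI := isLocalization_interior htI
  let O := ModPair.interior P.mod
  have hinj : Function.Injective (algebraMap Γ(P.total, ⊤) Γ((O : Scheme.{u}), ⊤)) :=
    algebraMap_injective (t := t) ht
  haveI := hf.2.1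
  haveI : IsIso (f.hom ∣_ ModPair.interior X.mod) := hf.2.2
  have hle : O ≤ g.hom ⁻¹ᵁ ModPair.interior X.mod := ambient_interior_le g.cond
  let w0 : (O : Scheme.{u}) ⟶ Q.total :=
    g.hom.resLE _ O hle ≫ inv (f.hom ∣_ ModPair.interior X.mod) ≫ (f.hom ⁻¹ᵁ ModPair.interior X.mod).ι
  have hw0 : w0 ≫ f.hom = O.ι ≫ g.hom := by
    simp only [w0, Category.assoc]
    rw [← morphismRestrict_ι, IsIso.inv_hom_id_assoc, Scheme.Hom.resLE_comp_ι]
  obtain ⟨h, hh, -⟩ := exists_lift q hq hinj (fun b a => mem_range_of_residue (t := t) ht q hq hbij b a) t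
    f.hom (P.total.isoSpec.inv ≫ g.hom) (O.toScheme.isoSpec.inv ≫ w0) (by
      rw [Category.assoc, hw0, ← Category.assoc, ← Category.assoc]
      congr 1
      exact (Scheme.isoSpec_inv_naturality O.ι).symm)
  exact ambient_of_minimal hf.1 g (P.total.isoSpec.hom ≫ h) (by rw [Category.assoc, hh, Iso.hom_inv_id_assoc])

end Groth.L13.LocalPair
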