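import Mathlib.RingTheory.Valuation.ValuationRing
import Mathlib.RingTheory.Localization.Away.Basic
import Mathlib.RingTheory.Localization.AtPrime.Basic
import Mathlib.RingTheory.Finiteness.Basic
import Mathlib.RingTheory.LocalRing.ResidueField.Basic

/-! Rings in which every finitely generated ideal containing a power of a nonzerodivisor is principal. -/

set_option autoImplicit false

universe u

namespace Groth.L13.LocalPair

variable {A : Type u} [CommRing A] [IsLocalRing A]

/-- in a local ring a principal two-generated ideal containing a nonzerodivisor is generated by one generator -/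
theorem dvd_or_dvd_of_principal {a b : A} {g : A} (hg : Ideal.span {a, b} = Ideal.span {g})
    (hgn : g ∈ nonZeroDivisors A) : a ∣ b ∨ b ∣ a := by
  obtain ⟨c, hc⟩ := Ideal.mem_span_singleton.1 (hg ▸ Ideal.subset_span (Set.mem_insert a {b}))
  obtain ⟨d, hd⟩ := Ideal.mem_span_singleton.1 (hg ▸ Ideal.subset_span (Set.mem_insert_of_mem a rfl) : b ∈ Ideal.span {g})
  obtain ⟨x, y, hxy⟩ := Ideal.mem_span_pair.1 (hg.symm ▸ Ideal.mem_span_singleton_self g)
  have h1 : x * c + y * d = 1 := by
    have h2 : g * (x * c + y * d) = g * 1 := by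
      rw [mul_one]
      calc g * (x * c + y * d) = x * a + y * b := by rw [hc, hd]; ring
        _ = g := hxy
    exact (isRegular_iff_mem_nonZeroDivisors.2 hgn).left h2
  rcases IsLocalRing.isUnit_or_isUnit_of_add_one h1 with h | h
  · obtain ⟨c', rfl⟩ := (isUnit_of_mul_isUnit_right h)
    exact Or.inl ⟨(c'⁻¹ : Aˣ) * d, by rw [hc, hd]; simp [mul_assoc]⟩
  · obtain ⟨d', rfl⟩ := (isUnit_of_mul_isUnit_right h)
    exact Or.inr ⟨(d'⁻¹ : Aˣ) * c, by rw [hc, hd]; simp [mul_assoc]⟩

variable {t : A} {B : Type u} [CommRing B] [Algebra A B] [IsLocalization.Away t B]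

theorem algebraMap_injective (ht : t ∈ nonZeroDivisors A) : Function.Injective (algebraMap A B) :=
  IsLocalization.injective B (M := Submonoid.powers t) (Submonoid.powers_le.2 ht)

theorem exists_eq_div (b : B) : ∃ (a : A) (n : ℕ), b * algebraMap A B t ^ n = algebraMap A B a := by
  obtain ⟨⟨a, ⟨s, n, rfl⟩⟩, h⟩ := IsLocalization.surj (Submonoid.powers t) b
  exact ⟨a, n, by rw [← map_pow]; exact h⟩

theorem isUnit_iff_dvd_pow (a : A) : IsUnit (algebraMap A B a) ↔ ∃ n : ℕ, a ∣ t ^ n := by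
  rw [IsLocalization.algebraMap_isUnit_iff (Submonoid.powers t) (S := B)]
  constructor
  · rintro ⟨m, hm, hd⟩
    rw [Submonoid.mem_powers_iff] at hm
    obtain ⟨n, rfl⟩ := hm
    exact ⟨n, hd⟩
  · rintro ⟨n, hd⟩
    exact ⟨_, Submonoid.mem_powers_iff _ _ |>.2 ⟨n, rfl⟩, hd⟩

/-- the comparability condition -/
def Comparable (t : A) : Prop :=
  ∀ (I : Ideal A), I.FG → (∃ n, t ^ n ∈ I) → ∃ g, I = Ideal.span {g}

variable (ht : t ∈ nonZeroDivisors A) (H : Comparable t)
include ht H

omit [IsLocalRing A] in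
theorem Comparable.nzd {I : Ideal A} (hI : I.FG) {n : ℕ} (hn : t ^ n ∈ I) :
    ∃ g, I = Ideal.span {g} ∧ g ∈ nonZeroDivisors A := by
  obtain ⟨g, rfl⟩ := H I hI ⟨n, hn⟩
  obtain ⟨c, hc⟩ := Ideal.mem_span_singleton.1 hn
  exact ⟨g, rfl, (mul_mem_nonZeroDivisors.1 (hc ▸ pow_mem ht n)).1⟩

theorem Comparable.dvd (f : A) (n : ℕ) : f ∣ t ^ n ∨ t ^ n ∣ f := by
  obtain ⟨g, hg, hgn⟩ := Comparable.nzd ht H (Submodule.fg_span (Set.toFinite _)) (n := n)
    (I := Ideal.span {f, t ^ n}) (Ideal.subset_span (Set.mem_insert_of_mem _ rfl))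
  exact dvd_or_dvd_of_principal hg hgn

theorem Comparable.dvd_of_not_isUnit {f : A} (hf : ¬ IsUnit (algebraMap A B f)) (n : ℕ) : t ^ n ∣ f :=
  (Comparable.dvd ht H f n).resolve_left fun h => hf ((isUnit_iff_dvd_pow (t := t) f).2 ⟨n, h⟩)

theorem Comparable.isLocalRing : IsLocalRing B := by
  haveI : Nontrivial B := (algebraMap_injective (B := B) ht).nontrivial
  refine IsLocalRing.of_nonunits_add ?_
  intro b c hb hc
  obtain ⟨f, n, hf⟩ := exists_eq_div (t := t) b
  obtain ⟨g, m, hg⟩ := exists_eq_div (t := t) c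
  have hu : IsUnit (algebraMap A B t) := IsLocalization.Away.algebraMap_isUnit t
  intro hbc
  have hbc' : IsUnit (algebraMap A B (f * t ^ m + g * t ^ n)) := by
    rw [map_add, map_mul, map_mul, ← hf, ← hg, map_pow, map_pow,
      show ∀ x y : B, b * x * y + c * y * x = (b + c) * (x * y) from fun x y => by ring]
    exact hbc.mul ((hu.pow n).mul (hu.pow m))
  obtain ⟨k, hk⟩ := (isUnit_iff_dvd_pow (t := t) _).1 hbc'
  have hf' : ¬ IsUnit (algebraMap A B (f * t ^ m)) := fun h => hb
    (isUnit_of_mul_isUnit_left (hf.symm ▸ (by rw [map_mul] at h; exact isUnit_of_mul_isUnit_left h) :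
      IsUnit (b * algebraMap A B t ^ n)))
  have hg' : ¬ IsUnit (algebraMap A B (g * t ^ n)) := fun h => hc
    (isUnit_of_mul_isUnit_left (hg.symm ▸ (by rw [map_mul] at h; exact isUnit_of_mul_isUnit_left h) :
      IsUnit (c * algebraMap A B t ^ m)))
  by_cases hut : IsUnit t
  · -- `A ⟶ B` is an isomorphism, and `A` is local
    have hu' : IsUnit (f * t ^ m + g * t ^ n) := isUnit_of_dvd_unit hk (hut.pow k)
    rcases IsLocalRing.isUnit_or_isUnit_of_isUnit_add hu' with h | h
    · exact hf' (h.map _)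
    · exact hg' (h.map _)
  · have h1 : t ^ (k + 1) ∣ t ^ k :=
      (dvd_add (Comparable.dvd_of_not_isUnit ht H hf' _) (Comparable.dvd_of_not_isUnit ht H hg' _)).trans hk
    obtain ⟨d, hd⟩ := h1
    refine hut (IsUnit.of_mul_eq_one d ?_)
    refine (isRegular_iff_mem_nonZeroDivisors.2 (pow_mem ht k)).left ?_
    simp only
    rw [mul_one, ← mul_assoc, ← pow_succ, ← hd]

variable [IsLocalRing B]

theorem Comparable.valuationRing (q : Ideal A) [q.IsPrime]
    (hq : q = (IsLocalRing.maximalIdeal B).comap (algebraMap A B)) : ValuationRing (A ⧸ q) := by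
  rw [ValuationRing.iff_dvd_total]
  refine ⟨fun a b => ?_⟩
  obtain ⟨f, rfl⟩ := Ideal.Quotient.mk_surjective a
  obtain ⟨g, rfl⟩ := Ideal.Quotient.mk_surjective b
  by_cases hf : f ∈ q
  · exact Or.inr (by rw [Ideal.Quotient.eq_zero_iff_mem.2 hf]; exact dvd_zero _)
  by_cases hg : g ∈ q
  · exact Or.inl (by rw [Ideal.Quotient.eq_zero_iff_mem.2 hg]; exact dvd_zero _)
  rw [hq, Ideal.mem_comap, IsLocalRing.mem_maximalIdeal, mem_nonunits_iff, not_not] at hf hg
  obtain ⟨n, c, hc⟩ := (isUnit_iff_dvd_pow (t := t) f).1 hf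
  obtain ⟨k, hk, hkn⟩ := Comparable.nzd ht H (Submodule.fg_span (Set.toFinite _)) (n := n)
    (I := Ideal.span {f, g}) (hc ▸ Ideal.mul_mem_right _ _ (Ideal.subset_span (Set.mem_insert _ _)))
  exact (dvd_or_dvd_of_principal hk hkn).imp (map_dvd _) (map_dvd _)

theorem Comparable.bijOn (q : Ideal A) [q.IsPrime]
    (hq : q = (IsLocalRing.maximalIdeal B).comap (algebraMap A B)) :
    Set.BijOn (algebraMap A (Localization.AtPrime q)) (q : Set A)
      (IsLocalRing.maximalIdeal (Localization.AtPrime q) : Set (Localization.AtPrime q)) := by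
  have hsq : ∀ s : A, s ∉ q → ∃ n, s ∣ t ^ n := fun s hs => by
    rw [hq, Ideal.mem_comap, IsLocalRing.mem_maximalIdeal, mem_nonunits_iff, not_not] at hs
    exact (isUnit_iff_dvd_pow (t := t) s).1 hs
  refine ⟨fun a ha => (IsLocalization.AtPrime.to_map_mem_maximal_iff _ q a).2 ha, ?_, ?_⟩
  · refine (IsLocalization.injective _ (M := q.primeCompl) fun s hs => ?_).injOn
    obtain ⟨n, c, hc⟩ := hsq s hs
    exact (mul_mem_nonZeroDivisors.1 (hc ▸ pow_mem ht n)).1
  · intro x hx
    obtain ⟨a, s, rfl⟩ := IsLocalization.exists_mk'_eq q.primeCompl x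
    have ha : a ∈ q := (IsLocalization.AtPrime.mk'_mem_maximal_iff _ q a s).1 hx
    obtain ⟨n, c, hc⟩ := hsq s s.2
    have hac : a * c ∈ q := Ideal.mul_mem_right _ _ ha
    obtain ⟨d, hd⟩ := Comparable.dvd_of_not_isUnit (B := B) ht H (f := a * c)
      (by rw [hq, Ideal.mem_comap] at hac; exact hac) n
    have hadn : a = (s : A) * d := by
      refine (isRegular_iff_mem_nonZeroDivisors.2
        (mul_mem_nonZeroDivisors.1 (hc ▸ pow_mem ht n)).2).right ?_
      simp only
      rw [hd, hc]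
      ring
    refine ⟨d, ?_, ?_⟩
    · rcases (Ideal.IsPrime.mem_or_mem ‹q.IsPrime› (hadn ▸ ha : (s : A) * d ∈ q)) with h | h
      · exact absurd h s.2
      · exact h
    · rw [IsLocalization.eq_mk'_iff_mul_eq, ← map_mul, hadn, mul_comm]

omit H in
/-- `B` is the localization at the prime under its maximal ideal -/
theorem isLocalization_atPrime (q : Ideal A) [q.IsPrime]
    (hq : q = (IsLocalRing.maximalIdeal B).comap (algebraMap A B)) : IsLocalization.AtPrime B q := by
  refine IsLocalization.of_le_of_exists_dvd (Submonoid.powers t) q.primeCompl ?_ ?_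
  · refine Submonoid.powers_le.2 fun h => ?_
    rw [hq, SetLike.mem_coe, Ideal.mem_comap, IsLocalRing.mem_maximalIdeal] at h
    exact h (IsLocalization.Away.algebraMap_isUnit t)
  · intro s hs
    have hs' : IsUnit (algebraMap A B s) := by
      by_contra h
      refine hs (?_ : s ∈ q)
      rw [hq, Ideal.mem_comap, IsLocalRing.mem_maximalIdeal]
      exact h
    obtain ⟨n, hn⟩ := (isUnit_iff_dvd_pow (t := t) s).1 hs'
    exact ⟨_, ⟨n, rfl⟩, hn⟩

omit H in
/-- the prime under the maximal ideal of `B` lifts to `A` -/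
theorem mem_range_of_residue (q : Ideal A) [q.IsPrime]
    (hq : q = (IsLocalRing.maximalIdeal B).comap (algebraMap A B))
    (hbij : Set.BijOn (algebraMap A (Localization.AtPrime q)) (q : Set A)
      (IsLocalRing.maximalIdeal (Localization.AtPrime q) : Set (Localization.AtPrime q)))
    (b : B) (a : A) (hba : b - algebraMap A B a ∈ IsLocalRing.maximalIdeal B) :
    b ∈ Set.range (algebraMap A B) := by
  haveI := isLocalization_atPrime (B := B) ht q hq
  let e : Localization.AtPrime q ≃ₐ[A] B := IsLocalization.algEquiv q.primeCompl _ _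
  obtain ⟨d, -, hd⟩ := hbij.surjOn (show e.symm (b - algebraMap A B a) ∈ _ by
    rw [SetLike.mem_coe, IsLocalRing.mem_maximalIdeal, mem_nonunits_iff] at *
    exact fun h => hba (by simpa using h.map e))
  refine ⟨a + d, ?_⟩
  have h := congrArg e hd
  rw [AlgEquiv.commutes, AlgEquiv.apply_symm_apply] at h
  rw [map_add, h]
  ring

end Groth.L13.LocalPair
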