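import Groth.Agent.L13.LocalPair.Alg
import Mathlib.RingTheory.LocalRing.Module
import Mathlib.RingTheory.FinitePresentation
import Mathlib.RingTheory.Flat.Basic
import Mathlib.FieldTheory.IsAlgClosed.Basic
import Mathlib.RingTheory.Ideal.GoingUp
import Mathlib.Algebra.Algebra.Bilinear

/-! Finite free algebras over a localised local ring have finite free models over the base. -/

set_option autoImplicit false
set_option linter.style.haveILetI false

universe u

namespace Groth.L13.LocalPair

variable {A B : Type u} [CommRing A] [CommRing B] [IsLocalRing B] [Algebra A B]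

/-- a finite nonzero algebra over a local ring with algebraically closed residue field has a rational point -/
theorem exists_residue_point [IsAlgClosed (IsLocalRing.ResidueField B)] (C : Type u) [CommRing C] [Algebra B C]
    [Module.Finite B C] [Nontrivial C] : ∃ _χ : C →ₐ[B] IsLocalRing.ResidueField B, True := by
  obtain ⟨M, hM⟩ := Ideal.exists_maximal C
  haveI : M.LiesOver (IsLocalRing.maximalIdeal B) :=
    ⟨(IsLocalRing.eq_maximalIdeal (Ideal.isMaximal_comap_of_isIntegral_of_isMaximal (R := B) M)).symm⟩
  letI : Field (C ⧸ M) := Ideal.Quotient.field M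
  letI : Algebra (IsLocalRing.ResidueField B) (C ⧸ M) :=
    (inferInstance : Algebra (B ⧸ IsLocalRing.maximalIdeal B) (C ⧸ M))
  haveI : IsScalarTower B (IsLocalRing.ResidueField B) (C ⧸ M) :=
    (inferInstance : IsScalarTower B (B ⧸ IsLocalRing.maximalIdeal B) (C ⧸ M))
  haveI : Module.Finite (IsLocalRing.ResidueField B) (C ⧸ M) :=
    Module.Finite.of_restrictScalars_finite B _ _
  haveI : Algebra.IsIntegral (IsLocalRing.ResidueField B) (C ⧸ M) := Algebra.IsIntegral.of_finite _ _
  let e : IsLocalRing.ResidueField B ≃ₐ[IsLocalRing.ResidueField B] C ⧸ M :=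
    AlgEquiv.ofBijective (Algebra.ofId _ _)
      IsAlgClosed.algebraMap_bijective_of_isIntegral
  exact ⟨(e.symm.toAlgHom.restrictScalars B).comp (Ideal.Quotient.mkₐ B M), trivial⟩

/-- a basis containing one, the other vectors in the kernel of a point -/
theorem exists_basis_one (C : Type u) [CommRing C] [Algebra B C] [Module.Finite B C] [Module.Free B C]
    (χ : C →ₐ[B] IsLocalRing.ResidueField B) :
    ∃ (ι : Type u) (_ : Fintype ι) (j : ι) (v : Module.Basis ι B C), v j = 1 ∧ ∀ i, i ≠ j → χ (v i) = 0 := by
  classical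
  let ι := Module.Free.ChooseBasisIndex B C
  let b : Module.Basis ι B C := Module.Free.chooseBasis B C
  obtain ⟨j, hj⟩ : ∃ j, IsUnit (b.repr 1 j) := by
    by_contra! h
    have h1 : χ 1 = 0 := by
      rw [← b.sum_repr 1, map_sum]
      refine Finset.sum_eq_zero fun i _ => ?_
      rw [map_smul, Algebra.smul_def,
        show algebraMap B (IsLocalRing.ResidueField B) (b.repr 1 i) = 0 from
          (IsLocalRing.residue_eq_zero_iff _).2 (h i), zero_mul]
    exact one_ne_zero ((map_one χ).symm.trans h1)
  choose c hc using fun i => IsLocalRing.residue_surjective (R := B) (χ (b i))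
  let v : ι → C := fun i => if i = j then 1 else b i - algebraMap B C (c i)
  have hspan : ∀ i, b i ∈ Submodule.span B (Set.range v) := by
    have h1 : (1 : C) ∈ Submodule.span B (Set.range v) := Submodule.subset_span ⟨j, if_pos rfl⟩
    have hne : ∀ i, i ≠ j → b i ∈ Submodule.span B (Set.range v) := fun i hi => by
      have h2 : v i ∈ Submodule.span B (Set.range v) := Submodule.subset_span ⟨i, rfl⟩
      have h3 := Submodule.add_mem _ h2 (Submodule.smul_mem _ (c i) h1)
      simpa [v, if_neg hi, Algebra.smul_def] using h3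
    intro i
    by_cases hi : i = j
    · subst hi
      obtain ⟨u, hu⟩ := hj
      have h2 : b.repr 1 i • b i = 1 - ∑ k ∈ Finset.univ.erase i, b.repr 1 k • b k := by
        rw [eq_sub_iff_add_eq, add_comm, Finset.sum_erase_add _ _ (Finset.mem_univ i), b.sum_repr]
      have h3 : b.repr 1 i • b i ∈ Submodule.span B (Set.range v) := h2 ▸ Submodule.sub_mem _ h1
        (Submodule.sum_mem _ fun k hk => Submodule.smul_mem _ _ (hne k (Finset.ne_of_mem_erase hk)))
      have h4 := Submodule.smul_mem _ ((u⁻¹ : Bˣ) : B) h3
      rwa [← hu, smul_smul, Units.inv_mul, one_smul] at h4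
    · exact hne i hi
  let T : C →ₗ[B] C := b.constr B v
  have hT : Function.Surjective T := by
    rw [← LinearMap.range_eq_top, Module.Basis.constr_range, eq_top_iff, ← b.span_eq]
    exact Submodule.span_le.2 (Set.range_subset_iff.2 hspan)
  let e := LinearEquiv.ofBijective T ⟨OrzechProperty.injective_of_surjective_endomorphism T hT, hT⟩
  refine ⟨ι, inferInstance, j, b.map e, ?_, fun i hi => ?_⟩
  · show T (b j) = 1
    rw [Module.Basis.constr_basis]; exact if_pos rfl
  · show χ (T (b i)) = 0
    rw [Module.Basis.constr_basis]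
    simp only [v, if_neg hi, map_sub, AlgHom.commutes]
    rw [show algebraMap B (IsLocalRing.ResidueField B) (c i) = χ (b i) from hc i, sub_self]

/-- sections of finite free algebras over the base give sections over the localisation -/
theorem exists_section_of_finiteFree [IsAlgClosed (IsLocalRing.ResidueField B)] (t : A) [IsLocalization.Away t B]
    (hinj : Function.Injective (algebraMap A B))
    (hmem : ∀ b ∈ IsLocalRing.maximalIdeal B, b ∈ Set.range (algebraMap A B))
    (hA : ∀ (L : Type u) [CommRing L] [Algebra A L] [Module.Finite A L] [Module.Free A L] [Nontrivial L],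
      ∃ _σ : L →ₐ[A] A, True)
    (C : Type u) [CommRing C] [Algebra B C] [Module.Finite B C] [Module.Free B C] [Nontrivial C] :
    ∃ _ψ : C →ₐ[B] B, True := by
  classical
  letI : Algebra A C := ((algebraMap B C).comp (algebraMap A B)).toAlgebra
  haveI : IsScalarTower A B C := IsScalarTower.of_algebraMap_eq fun _ => rfl
  obtain ⟨χ, -⟩ := exists_residue_point (B := B) C
  obtain ⟨ι, _, j, v, hvj, hvχ⟩ := exists_basis_one C χ
  obtain ⟨s₀, hs₀⟩ := IsLocalization.exist_integer_multiples (Submonoid.powers t)
    (Finset.univ : Finset (ι × ι × ι)) (fun p => v.repr (v p.1 * v p.2.1) p.2.2)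
  let s : Bˣ := (IsLocalization.map_units B s₀).unit
  have hs : ∀ a b c, (s : B) * v.repr (v a * v b) c ∈ Set.range (algebraMap A B) := fun a b c => by
    obtain ⟨x, hx⟩ := hs₀ (a, b, c) (Finset.mem_univ _)
    exact ⟨x, by rw [hx, Algebra.smul_def]; rfl⟩
  let sc : ι → Bˣ := fun i => if i = j then 1 else s
  let w : Module.Basis ι B C := v.unitsSMul sc
  have hw : ∀ i, w i = (sc i : B) • v i := fun i => by rw [Module.Basis.unitsSMul_apply]; rfl
  have hscj : (sc j : B) = 1 := by simp [sc]
  have hsci : ∀ i, i ≠ j → (sc i : B) = s := fun i hi => by simp [sc, hi]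
  have hwj : w j = 1 := by rw [hw, hvj, hscj, one_smul]
  -- structure constants
  have key : ∀ a b c, w.repr (w a * w b) c ∈ Set.range (algebraMap A B) := by
    have hbasis : ∀ a c, w.repr (w a) c ∈ Set.range (algebraMap A B) := fun a c => by
      rw [w.repr_self, Finsupp.single_apply]
      split
      · exact ⟨1, map_one _⟩
      · exact ⟨0, map_zero _⟩
    intro a b c
    by_cases ha : a = j
    · subst ha; rw [hwj, one_mul]; exact hbasis b c
    by_cases hb : b = j
    · subst hb; rw [hwj, mul_one]; exact hbasis a c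
    have hprod : w a * w b = ((s : B) * s) • (v a * v b) := by
      rw [hw, hw, hsci a ha, hsci b hb, smul_mul_smul_comm]
    rw [show w.repr (w a * w b) c = ((sc c)⁻¹ : Bˣ) • v.repr (w a * w b) c from
      Module.Basis.repr_unitsSMul v sc _ c, hprod, map_smul, Finsupp.smul_apply, smul_eq_mul, Units.smul_def,
      smul_eq_mul]
    by_cases hc : c = j
    · subst hc
      refine hmem _ ?_
      refine Ideal.mul_mem_left _ _ (Ideal.mul_mem_left _ _ ?_)
      rw [← IsLocalRing.residue_eq_zero_iff]
      have h1 : χ (v a * v b) = 0 := by rw [map_mul, hvχ a ha, zero_mul]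
      rw [← v.sum_repr (v a * v b), map_sum, Finset.sum_eq_single c
        (fun i _ hi => by rw [map_smul, hvχ i hi, smul_zero]) (fun h => absurd (Finset.mem_univ c) h),
        hvj, map_smul, map_one, Algebra.smul_def, mul_one] at h1
      exact h1
    · rw [show sc c = s by simp [sc, hc], ← mul_assoc, ← mul_assoc, Units.inv_mul, one_mul]
      exact hs a b c
  let Ls : Submodule A C := Submodule.span A (Set.range w)
  have hmemLs : ∀ x : C, (∀ c, w.repr x c ∈ Set.range (algebraMap A B)) → x ∈ Ls := fun x hx => by
    rw [← w.sum_repr x]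
    refine Submodule.sum_mem _ fun c _ => ?_
    obtain ⟨r, hr⟩ := hx c
    rw [← hr, algebraMap_smul]
    exact Submodule.smul_mem _ _ (Submodule.subset_span ⟨c, rfl⟩)
  have h1 : (1 : C) ∈ Ls := Submodule.subset_span ⟨j, hwj⟩
  have hmul : ∀ x y, x ∈ Ls → y ∈ Ls → x * y ∈ Ls := by
    intro x y hx hy
    refine (Submodule.mul_le.2 ?_ : Ls * Ls ≤ Ls) (Submodule.mul_mem_mul hx hy)
    intro p hp q hq
    induction hp using Submodule.span_induction with
    | mem p hp =>
      obtain ⟨a, rfl⟩ := hp
      induction hq using Submodule.span_induction with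
      | mem q hq => obtain ⟨b, rfl⟩ := hq; exact hmemLs _ (key a b)
      | zero => rw [mul_zero]; exact Submodule.zero_mem _
      | add q q' _ _ h h' => rw [mul_add]; exact Submodule.add_mem _ h h'
      | smul r q _ h => rw [mul_smul_comm]; exact Submodule.smul_mem _ r h
    | zero => rw [zero_mul]; exact Submodule.zero_mem _
    | add p p' _ _ h h' => rw [add_mul]; exact Submodule.add_mem _ h h'
    | smul r p _ h => rw [smul_mul_assoc]; exact Submodule.smul_mem _ r h
  let L : Subalgebra A C := Ls.toSubalgebra h1 hmul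
  have hli : LinearIndependent A (fun i => w i) :=
    w.linearIndependent.restrict_scalars (fun x y h => hinj (by simpa [Algebra.smul_def] using h))
  haveI : Module.Free A L := Module.Free.of_basis (Module.Basis.span hli)
  haveI : Module.Finite A L := Module.Finite.of_basis (Module.Basis.span hli)
  obtain ⟨σ, -⟩ := hA L
  let f : C →ₗ[B] B := w.constr B fun i => algebraMap A B (σ ⟨w i, Submodule.subset_span ⟨i, rfl⟩⟩)
  have hf : ∀ (x : C) (hx : x ∈ Ls), f x = algebraMap A B (σ ⟨x, hx⟩) := by
    intro x hx
    induction hx using Submodule.span_induction with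
    | mem p hp => obtain ⟨i, rfl⟩ := hp; exact Module.Basis.constr_basis _ _ _ _
    | zero =>
      rw [map_zero, show (⟨(0 : C), Submodule.zero_mem Ls⟩ : L) = 0 from rfl, map_zero, map_zero]
    | add p q hp hq h h' =>
      rw [map_add, h, h', ← map_add, ← map_add σ]; rfl
    | smul r p hp h =>
      rw [show f (r • p) = f (algebraMap A B r • p) by rw [algebraMap_smul], map_smul, h, algebraMap_smul, show
        (⟨r • p, Submodule.smul_mem Ls r hp⟩ : L) = r • (⟨p, hp⟩ : L) from rfl, map_smul, smul_eq_mul,
        map_mul, Algebra.smul_def]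
  refine ⟨AlgHom.ofLinearMap f ?_ ?_, trivial⟩
  · rw [hf 1 h1, show (⟨1, h1⟩ : L) = 1 from rfl, map_one, map_one]
  · rw [LinearMap.map_mul_iff]
    refine w.ext fun a => w.ext fun b => ?_
    show f (w a * w b) = f (w a) * f (w b)
    have ha : w a ∈ Ls := Submodule.subset_span ⟨a, rfl⟩
    have hb : w b ∈ Ls := Submodule.subset_span ⟨b, rfl⟩
    rw [hf _ (hmul _ _ ha hb), hf _ ha, hf _ hb, show
      (⟨w a * w b, hmul _ _ ha hb⟩ : L) = ⟨w a, ha⟩ * ⟨w b, hb⟩ from rfl, map_mul, map_mul]

end Groth.L13.LocalPair
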