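import Groth.Agent.L13.LocalPair.Hens
import Groth.Agent.L13.LocalPair.FiniteModel
import Groth.Agent.L13.FppfLocal.Basic
import Groth.Agent.L13.FppfLocal.NisRefine
import Mathlib.AlgebraicGeometry.Sites.MorphismProperty
import Mathlib.FieldTheory.IsSepClosed
import Mathlib.RingTheory.Finiteness.ModuleFinitePresentation

/-! Locality of schemes and modulus pairs for flat coverings of finite presentation. -/

set_option autoImplicit false
set_option linter.style.haveILetI false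

universe u

open CategoryTheory CategoryTheory.Limits AlgebraicGeometry TopologicalSpace Opposite

namespace Groth.L13.LocalPair

open Groth.L22 Groth.L13.MP

variable {X Y : Scheme.{u}}

/-- effective Cartier ideals pull back along flat maps -/
theorem isEffCartier_comap_flat (f : X ⟶ Y) [Flat f] {I : Y.IdealSheafData}
    (hI : BlowUp.IsEffCartierIdeal I) : BlowUp.IsEffCartierIdeal (I.comap f) := by
  intro x
  obtain ⟨U, hxU, t, ht, htI, -⟩ := Ideals.exists_generator hI (f x)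
  obtain ⟨_, ⟨V, hV, rfl⟩, hxV, hVU⟩ := X.isBasis_affineOpens.exists_subset_of_mem_open
    (a := x) (show x ∈ f ⁻¹ᵁ U.1 from hxU) (f ⁻¹ᵁ U.1).2
  replace hVU : V ≤ f ⁻¹ᵁ U.1 := hVU
  refine ⟨⟨V, hV⟩, hxV, f.appLE U.1 V hVU t, ?_, ?_⟩
  · letI := (f.appLE U.1 V hVU).hom.toAlgebra
    haveI : Module.Flat Γ(Y, U.1) Γ(X, V) := f.flat_appLE U.2 hV hVU
    rw [mem_nonZeroDivisors_iff_right]
    intro c hc
    refine (Module.Flat.isSMulRegular_of_nonZeroDivisors (M := Γ(X, V)) ht) (show t • c = t • 0 from ?_)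
    rw [smul_zero, Algebra.smul_def, mul_comm]
    exact hc
  · rw [Ideals.comap_ideal f I U ⟨V, hV⟩ hVU, htI, Ideal.map_span, Set.image_singleton]

/-- flat morphisms of finite presentation -/
abbrev fppf : MorphismProperty Scheme.{u} :=
  @Flat ⊓ @LocallyOfFinitePresentation ⊓ @QuasiCompact ⊓ @QuasiSeparated

/-- a scheme is local for fppf coverings -/
def FppfLocalSch (T : Scheme.{u}) : Prop :=
  ∀ (X : Scheme.{u}) (R : Presieve X), R ∈ Scheme.precoverage fppf X →
    ∀ g : T ⟶ X, ∃ (Y : Scheme.{u}) (w : Y ⟶ X) (h : T ⟶ Y), R w ∧ h ≫ w = g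

theorem fppfLocalSch_of_isLocalFor (T : Scheme.{u}) [IsAffine T]
    (h : Groth.Agent.L13.FppfLocal.IsLocalFor Γ(T, ⊤) fppf) : FppfLocalSch T := by
  intro X R hR g
  obtain ⟨Y, w, k, hw, hk⟩ := h X R hR (T.isoSpec.inv ≫ g)
  exact ⟨Y, w, T.isoSpec.hom ≫ k, hw, by
    rw [Category.assoc]
    exact (congrArg (fun φ => T.isoSpec.hom ≫ φ) hk).trans (Iso.hom_inv_id_assoc _ _)⟩

theorem isLocalFor_of_fppfLocalSch (T : Scheme.{u}) [IsAffine T] (h : FppfLocalSch T) :
    Groth.Agent.L13.FppfLocal.IsLocalFor Γ(T, ⊤) fppf := by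
  intro X R hR g
  obtain ⟨Y, w, k, hw, hk⟩ := h X R hR (T.isoSpec.hom ≫ g)
  exact ⟨Y, w, T.isoSpec.inv ≫ k, hw, by
    rw [Category.assoc, hk]
    exact Iso.inv_hom_id_assoc _ _⟩

/-- henselian with separably closed residue field and split finite free algebras: fppf local -/
theorem isLocalFor_fppf {B : Type u} [CommRing B] [HenselianLocalRing B]
    [IsSepClosed (IsLocalRing.ResidueField B)]
    (hfin : ∀ (C : Type u) [CommRing C] [Algebra B C] [Module.Finite B C] [Module.Free B C] [Nontrivial C],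
      ∃ _σ : C →ₐ[B] B, True) :
    Groth.Agent.L13.FppfLocal.IsLocalFor B fppf := by
  intro X R hR g
  let S := Spec (CommRingCat.of B)
  let η : S := IsLocalRing.closedPoint B
  obtain ⟨_, _, @⟨Y, w, hRw⟩, a, ha⟩ := hR.1 (g η)
  change w a = g η at ha
  obtain ⟨⟨⟨hwf, hwp⟩, -⟩, -⟩ : fppf w := hR.2 hRw
  haveI : Flat w := hwf
  haveI : LocallyOfFinitePresentation w := hwp
  obtain ⟨b, hb, -⟩ := Scheme.Pullback.exists_preimage_pullback (f := g) (g := w) η a ha.symm
  obtain ⟨U, V, u, v, y, r, hu, huy, -, ⟨hv1, hv2, hv3⟩, hr⟩ :=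
    Groth.Agent.L13.FppfLocal.exists_refinement_at (pullback.fst g w) b
  rw [hb] at huy
  obtain ⟨W, hW, hyW, -⟩ := exists_isAffineOpen_mem_and_subset (x := y) (U := (⊤ : U.Opens)) trivial
  haveI : IsOpenImmersion hW.fromSpec := hW.isOpenImmersion_fromSpec
  let τ : Spec Γ(U, W) ⟶ S := hW.fromSpec ≫ u
  obtain ⟨φ, hφ⟩ : ∃ φ, Spec.map φ = τ := ⟨Spec.preimage τ, Spec.map_preimage τ⟩
  haveI : Etale τ := inferInstance
  have het : φ.hom.Etale := (HasRingHomProperty.Spec_iff (P := @Etale)).1 (by rw [hφ]; infer_instance)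
  letI := φ.hom.toAlgebra
  haveI : Algebra.Etale B Γ(U, W) := het
  obtain ⟨y', hy'⟩ : y ∈ Set.range hW.fromSpec := by rw [hW.range_fromSpec]; exact hyW
  obtain ⟨σ, -⟩ := hasEtaleSections Γ(U, W) ⟨y', by
    show (Spec.map φ) y' = η
    rw [hφ, Scheme.Hom.comp_apply, hy', huy]⟩
  let s : S ⟶ U := Spec.map (CommRingCat.ofHom σ.toRingHom) ≫ hW.fromSpec
  have hs : s ≫ u = 𝟙 _ := by
    simp only [s, Category.assoc]
    change Spec.map (CommRingCat.ofHom σ.toRingHom) ≫ τ = _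
    rw [← hφ, ← Spec.map_comp, ← Spec.map_id]
    congr 1
    ext c
    exact σ.commutes c
  let T := pullback s v
  haveI : IsFinite (pullback.fst s v) := MorphismProperty.pullback_fst _ _ hv1
  haveI : Flat (pullback.fst s v) := MorphismProperty.pullback_fst _ _ hv2
  haveI : IsAffine T := isAffine_of_isAffineHom (pullback.fst s v)
  obtain ⟨z₀, hz₀⟩ := (MorphismProperty.pullback_fst (P := @Surjective) s v hv3).surj η
  let τ' : Spec Γ(T, ⊤) ⟶ S := T.isoSpec.inv ≫ pullback.fst s v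
  obtain ⟨φ', hφ'⟩ : ∃ φ', Spec.map φ' = τ' := ⟨Spec.preimage τ', Spec.map_preimage τ'⟩
  haveI : IsFinite τ' := inferInstance
  haveI : Flat τ' := inferInstance
  have hfinite : φ'.hom.Finite := (IsFinite.SpecMap_iff φ').1 (by rw [hφ']; infer_instance)
  have hflat : φ'.hom.Flat := (HasRingHomProperty.Spec_iff (P := @Flat)).1 (by rw [hφ']; infer_instance)
  letI := φ'.hom.toAlgebra
  haveI : Module.Finite B Γ(T, ⊤) := hfinite
  haveI : Module.Flat B Γ(T, ⊤) := hflat
  haveI : Module.Free B Γ(T, ⊤) := Module.free_of_flat_of_isLocalRing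
  haveI : Nontrivial Γ(T, ⊤) := PrimeSpectrum.nonempty_iff_nontrivial.1 ⟨T.isoSpec.hom z₀⟩
  obtain ⟨σ', -⟩ := hfin Γ(T, ⊤)
  have hs' : Spec.map (CommRingCat.ofHom σ'.toRingHom) ≫ τ' = 𝟙 _ := by
    rw [← hφ', ← Spec.map_comp, ← Spec.map_id]
    congr 1
    ext c
    exact σ'.commutes c
  refine ⟨Y, w, Spec.map (CommRingCat.ofHom σ'.toRingHom) ≫ T.isoSpec.inv ≫ pullback.snd s v ≫ r ≫
    pullback.snd g w, hRw, ?_⟩
  simp only [Category.assoc, ← pullback.condition]
  rw [reassoc_of% hr, ← pullback.condition_assoc, reassoc_of% hs]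
  exact (congrArg (fun ψ => ψ ≫ g) hs').trans (Category.id_comp g) |> fun h => by
    simpa only [τ', Category.assoc] using h

/-- split finite free algebras over an fppf local ring -/
theorem exists_section_of_isLocalFor {A : Type u} [CommRing A]
    (h : Groth.Agent.L13.FppfLocal.IsLocalFor A fppf)
    (L : Type u) [CommRing L] [Algebra A L] [Module.Finite A L] [Module.Free A L] [Nontrivial L] :
    ∃ _σ : L →ₐ[A] A, True := by
  haveI : Nontrivial A := (algebraMap A L).domain_nontrivial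
  haveI : Module.FinitePresentation A L := Module.finitePresentation_of_projective A L
  obtain ⟨-, s, hs⟩ := Groth.Agent.L13.FppfLocal.exists_retraction h
    (fun _ : PUnit.{u + 1} => CommRingCat.of L) (fun _ => CommRingCat.ofHom (algebraMap A L))
    (fun _ => by
      refine ⟨⟨⟨?_, ?_⟩, inferInstance⟩, inferInstance⟩
      · exact (HasRingHomProperty.Spec_iff (P := @Flat)).2 (RingHom.flat_algebraMap_iff.2 inferInstance)
      · exact (HasRingHomProperty.Spec_iff (P := @LocallyOfFinitePresentation)).2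
          ((RingHom.finitePresentation_algebraMap (A := A) (B := L)).2 inferInstance))
    (fun x => ⟨PUnit.unit, PrimeSpectrum.comap_surjective_of_faithfullyFlat x⟩)
  exact ⟨{ s.hom with commutes' := fun a => RingHom.congr_fun (congrArg CommRingCat.Hom.hom hs) a }, trivial⟩

/-- locality for flat coverings of modulus pairs -/
def FppfLocal (P : ModPair.Pair.{u}) : Prop :=
  ∀ (X : ModPair.Pair.{u}) (ι : Type u) (U : ι → ModPair.Pair.{u}) (v : ∀ i, U i ⟶ X),
    (∀ i, ModPair.IsMinimal (U i).mod X.mod (v i).hom ∧ Flat (v i).hom ∧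
      LocallyOfFinitePresentation (v i).hom ∧ QuasiCompact (v i).hom ∧ QuasiSeparated (v i).hom) →
    (∀ x : X.total, ∃ (i : ι) (y : (U i).total), (v i).hom.base y = x) →
    ∀ g : P ⟶ X, ∃ (i : ι) (h : P ⟶ U i), h ≫ v i = g

variable {P : ModPair.Pair.{u}}

theorem FppfLocal.etLocal (h : FppfLocal P) : EtLocal P := by
  intro X ι U v hv hcov g
  refine h X ι U v (fun i => ?_) hcov g
  haveI := (hv i).2.1
  exact ⟨(hv i).1, inferInstance, inferInstance, (hv i).2.2.1, (hv i).2.2.2⟩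

/-- a locally fppf-local pair has fppf-local total space -/
theorem FppfLocal.fppfLocalSch (h : FppfLocal P) : FppfLocalSch P.total := by
  intro X R hR g
  have hpt : ∀ x : P.total, ∃ (Y : Scheme.{u}) (w : Y ⟶ X), R w ∧ ∃ a : Y, w a = g x := fun x => by
    obtain ⟨_, _, @⟨Y, w, hRw⟩, a, ha⟩ := hR.1 (g x)
    exact ⟨Y, w, hRw, a, ha⟩
  choose Y w hRw a ha using hpt
  have hw : ∀ x, fppf (pullback.fst g (w x)) := fun x => by
    obtain ⟨⟨⟨h1, h2⟩, h3⟩, h4⟩ : fppf (w x) := hR.2 (hRw x)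
    exact ⟨⟨⟨MorphismProperty.pullback_fst _ _ h1, MorphismProperty.pullback_fst _ _ h2⟩,
      MorphismProperty.pullback_fst _ _ h3⟩, MorphismProperty.pullback_fst _ _ h4⟩
  obtain ⟨x, k, hk⟩ := h P P.total
    (fun x => ⟨pullback g (w x), P.mod.comap (pullback.fst g (w x)), by
      haveI : Flat (pullback.fst g (w x)) := (hw x).1.1.1
      exact isEffCartier_comap_flat _ P.isEffCartier⟩)
    (fun x => ⟨pullback.fst g (w x), le_refl _⟩)
    (fun x => ⟨rfl, (hw x).1.1.1, (hw x).1.1.2, (hw x).1.2, (hw x).2⟩)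
    (fun x => by
      obtain ⟨z, hz, -⟩ := Scheme.Pullback.exists_preimage_pullback (f := g) (g := w x) x (a x) (ha x).symm
      exact ⟨x, z, hz⟩) (𝟙 P)
  refine ⟨Y x, w x, k.hom ≫ pullback.snd g (w x), hRw x, ?_⟩
  have hk' : k.hom ≫ pullback.fst g (w x) = 𝟙 _ := congrArg ModPair.Pair.Hom.hom hk
  rw [Category.assoc, ← pullback.condition, reassoc_of% hk']

/-- fppf-local schemes are local for coverings of pairs -/
theorem fppfLocal_of_fppfLocalSch [IsAffine P.total] [IsLocalRing Γ(P.total, ⊤)] (h : FppfLocalSch P.total) :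
    FppfLocal P := by
  intro X ι U v hv hcov g
  obtain ⟨Y, w, k, hw, hk⟩ := h X.total (Presieve.ofArrows (fun i => (U i).total) (fun i => (v i).hom))
    ((Scheme.ofArrows_mem_precoverage_iff _).2 ⟨fun x => by
      obtain ⟨i, y, hy⟩ := hcov x
      exact ⟨i, y, hy⟩, fun i => ⟨⟨⟨(hv i).2.1, (hv i).2.2.1⟩, (hv i).2.2.2.1⟩, (hv i).2.2.2.2⟩⟩) g.hom
  cases hw with
  | mk i => exact ⟨i, ambient_of_minimal (hv i).1 g k hk⟩

theorem FppfLocalSch.zar {T : Scheme.{u}} (h : FppfLocalSch T) {ι : Type u} (U : ι → T.Opens)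
    (hU : ∀ i, QuasiCompact (U i).ι) (hcov : ∀ x, ∃ i, x ∈ U i) : ∃ i, U i = ⊤ := by
  obtain ⟨Y, w, k, hw, hk⟩ := h T (Presieve.ofArrows (fun i => (U i).toScheme) (fun i => (U i).ι))
    ((Scheme.ofArrows_mem_precoverage_iff _).2 ⟨fun x => by
      obtain ⟨i, hi⟩ := hcov x
      exact ⟨i, ⟨x, hi⟩, rfl⟩, fun i => ⟨⟨⟨inferInstanceAs (Flat (U i).ι),
        inferInstanceAs (LocallyOfFinitePresentation (U i).ι)⟩, hU i⟩, inferInstanceAs (QuasiSeparated (U i).ι)⟩⟩) (𝟙 T)
  cases hw with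
  | mk i =>
    refine ⟨i, top_le_iff.1 fun x _ => ?_⟩
    have hx : (U i).ι (k x) = x := congrArg (fun φ : T ⟶ T => φ x) hk
    exact hx ▸ (k x).2

end Groth.L13.LocalPair
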