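import Groth.Agent.L13.LocalPair.Alg
import Mathlib.AlgebraicGeometry.ValuativeCriterion
import Mathlib.AlgebraicGeometry.Stalk

/-! A local ring glued from a valuation ring and a local ring lifts along proper morphisms. -/

set_option autoImplicit false

universe u

open CategoryTheory CategoryTheory.Limits AlgebraicGeometry TopologicalSpace

namespace Groth.L13.LocalPair

variable {A B : Type u} [CommRing A] [IsLocalRing A] [CommRing B] [IsLocalRing B] [Algebra A B]

/-- two maps from the spectrum of a local ring agree if they do on a dominant spectrum and land in a common affine -/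
theorem hom_ext_of_closedPoint (hinj : Function.Injective (algebraMap A B)) {X : Scheme.{u}}
    (f g : Spec (CommRingCat.of A) ⟶ X) (hpt : f (IsLocalRing.closedPoint A) = g (IsLocalRing.closedPoint A))
    (h : Spec.map (CommRingCat.ofHom (algebraMap A B)) ≫ f = Spec.map (CommRingCat.ofHom (algebraMap A B)) ≫ g) :
    f = g := by
  obtain ⟨W, hW, hxW, -⟩ :=
    exists_isAffineOpen_mem_and_subset (x := f (IsLocalRing.closedPoint A)) (U := (⊤ : X.Opens)) trivial
  haveI : IsOpenImmersion hW.fromSpec := hW.isOpenImmersion_fromSpec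
  have key : ∀ k : Spec (CommRingCat.of A) ⟶ X, k (IsLocalRing.closedPoint A) ∈ W →
      ∃ γ : Γ(X, W) ⟶ CommRingCat.of A, Spec.map γ ≫ hW.fromSpec = k := fun k hk => by
    have hr : Set.range k ⊆ Set.range hW.fromSpec := by
      rintro _ ⟨y, rfl⟩
      rw [hW.range_fromSpec]
      exact (Scheme.preimage_eq_top_of_closedPoint_mem k hk).ge trivial
    exact ⟨Spec.preimage (IsOpenImmersion.lift hW.fromSpec k hr), by
      rw [Spec.map_preimage, IsOpenImmersion.lift_fac]⟩
  obtain ⟨α, rfl⟩ := key f hxW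
  obtain ⟨β, rfl⟩ := key g (hpt ▸ hxW)
  rw [← Category.assoc, ← Category.assoc, cancel_mono, ← Spec.map_comp, ← Spec.map_comp] at h
  have h' := Spec.map_injective h
  congr 2
  ext c
  exact hinj (ConcreteCategory.congr_hom h' c)

variable {t : A} [IsLocalization.Away t B] (q : Ideal A) [q.IsPrime]
  (hq : q = (IsLocalRing.maximalIdeal B).comap (algebraMap A B))

/-- the map of the valuation part into the residue field of the localised part -/
noncomputable def toResidue : A ⧸ q →+* IsLocalRing.ResidueField B :=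
  Ideal.Quotient.lift q ((IsLocalRing.residue B).comp (algebraMap A B)) fun a ha => by
    rw [hq] at ha
    exact Ideal.Quotient.eq_zero_iff_mem.2 ha

theorem toResidue_mk (a : A) :
    toResidue q hq (Ideal.Quotient.mk q a) = IsLocalRing.residue B (algebraMap A B a) := rfl

theorem toResidue_injective : Function.Injective (toResidue q hq) := by
  rw [injective_iff_map_eq_zero]
  intro x hx
  obtain ⟨a, rfl⟩ := Ideal.Quotient.mk_surjective x
  rw [toResidue_mk, IsLocalRing.residue_eq_zero_iff] at hx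
  exact Ideal.Quotient.eq_zero_iff_mem.2 (hq.symm ▸ hx)

theorem isFractionRing (t : A) [IsLocalization.Away t B] :
    @IsFractionRing (A ⧸ q) _ (IsLocalRing.ResidueField B) _ (toResidue q hq).toAlgebra := by
  letI := (toResidue q hq).toAlgebra
  constructor
  refine ⟨?_, fun z => ?_, fun {x y} h => ⟨1, ?_⟩⟩
  · rintro ⟨y, hy⟩
    exact isUnit_iff_ne_zero.2 fun h => nonZeroDivisors.ne_zero hy
      (toResidue_injective q hq (h.trans (map_zero _).symm))
  · obtain ⟨b, rfl⟩ := IsLocalRing.residue_surjective (R := B) z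
    obtain ⟨a, n, h⟩ := exists_eq_div (t := t) b
    have htn : t ^ n ∉ q := fun hm => by
      rw [hq, Ideal.mem_comap, IsLocalRing.mem_maximalIdeal, map_pow] at hm
      exact hm ((IsLocalization.Away.algebraMap_isUnit t).pow n)
    refine ⟨⟨Ideal.Quotient.mk q a, ⟨Ideal.Quotient.mk q (t ^ n), ?_⟩⟩, ?_⟩
    · exact mem_nonZeroDivisors_of_ne_zero fun h0 => htn (Ideal.Quotient.eq_zero_iff_mem.1 h0)
    · show IsLocalRing.residue B b * toResidue q hq (Ideal.Quotient.mk q (t ^ n)) =
        toResidue q hq (Ideal.Quotient.mk q a)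
      rw [toResidue_mk, toResidue_mk, ← map_mul, map_pow, h]
  · simp only [OneMemClass.coe_one, one_mul]
    exact toResidue_injective q hq h

include hq in
/-- lifting along a universally closed morphism -/
theorem exists_lift (hinj : Function.Injective (algebraMap A B)) [ValuationRing (A ⧸ q)]
    (hmem : ∀ (b : B) (a : A), b - algebraMap A B a ∈ IsLocalRing.maximalIdeal B → b ∈ Set.range (algebraMap A B))
    (t : A) [IsLocalization.Away t B]
    {Q X : Scheme.{u}} (f : Q ⟶ X) [UniversallyClosed f] (g : Spec (CommRingCat.of A) ⟶ X)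
    (w : Spec (CommRingCat.of B) ⟶ Q) (hw : w ≫ f = Spec.map (CommRingCat.ofHom (algebraMap A B)) ≫ g) :
    ∃ h : Spec (CommRingCat.of A) ⟶ Q, h ≫ f = g ∧ Spec.map (CommRingCat.ofHom (algebraMap A B)) ≫ h = w := by
  letI := (toResidue q hq).toAlgebra
  haveI := isFractionRing q hq t
  let πV : CommRingCat.of A ⟶ CommRingCat.of (A ⧸ q) := CommRingCat.ofHom (Ideal.Quotient.mk q)
  let πK : CommRingCat.of B ⟶ CommRingCat.of (IsLocalRing.ResidueField B) :=
    CommRingCat.ofHom (IsLocalRing.residue B)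
  let ι : CommRingCat.of A ⟶ CommRingCat.of B := CommRingCat.ofHom (algebraMap A B)
  let j : CommRingCat.of (A ⧸ q) ⟶ CommRingCat.of (IsLocalRing.ResidueField B) :=
    CommRingCat.ofHom (toResidue q hq)
  have hsq : πV ≫ j = ι ≫ πK := by ext a; rfl
  have hc : Spec.map πK ≫ w ≫ f = Spec.map j ≫ Spec.map πV ≫ g := by
    rw [hw, ← Category.assoc, ← Spec.map_comp, ← hsq, Spec.map_comp, Category.assoc]
  haveI : ValuativeCriterion.Existence f :=
    (UniversallyClosed.eq_valuativeCriterion.le _ _ f inferInstance).1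
  obtain ⟨⟨v, hv₁, hv₂⟩⟩ := (this ⟨A ⧸ q, IsLocalRing.ResidueField B, Spec.map πK ≫ w, Spec.map πV ≫ g,
    ⟨(Category.assoc _ _ _).trans hc⟩⟩).exists_lift
  change Spec.map j ≫ v = Spec.map πK ≫ w at hv₁
  change v ≫ f = Spec.map πV ≫ g at hv₂
  obtain ⟨W, hW, hxW, -⟩ :=
    exists_isAffineOpen_mem_and_subset (x := v (IsLocalRing.closedPoint (A ⧸ q))) (U := (⊤ : Q.Opens)) trivial
  haveI : IsOpenImmersion hW.fromSpec := hW.isOpenImmersion_fromSpec
  have hvW : v ⁻¹ᵁ W = ⊤ := Scheme.preimage_eq_top_of_closedPoint_mem v hxW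
  have hwW : w ⁻¹ᵁ W = ⊤ := by
    refine Scheme.preimage_eq_top_of_closedPoint_mem w ?_
    have h1 : (Spec.map πK) (IsLocalRing.closedPoint (IsLocalRing.ResidueField B)) = IsLocalRing.closedPoint B :=
      IsLocalRing.comap_closedPoint (IsLocalRing.residue B)
    have h2 : v ((Spec.map j) (IsLocalRing.closedPoint (IsLocalRing.ResidueField B))) ∈ W := hvW.ge trivial
    rw [← h1, ← Scheme.Hom.comp_apply]
    rw [← Scheme.Hom.comp_apply] at h2
    exact (congrArg (fun φ : Spec (CommRingCat.of (IsLocalRing.ResidueField B)) ⟶ Q =>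
      φ (IsLocalRing.closedPoint _) ∈ W) hv₁).mp h2
  obtain ⟨α, hα⟩ : ∃ α, Spec.map α ≫ hW.fromSpec = v :=
    ⟨Spec.preimage (IsOpenImmersion.lift hW.fromSpec v (by
      rintro _ ⟨y, rfl⟩; rw [hW.range_fromSpec]; exact hvW.ge trivial)), by
      rw [Spec.map_preimage, IsOpenImmersion.lift_fac]⟩
  obtain ⟨β, hβ⟩ : ∃ β, Spec.map β ≫ hW.fromSpec = w :=
    ⟨Spec.preimage (IsOpenImmersion.lift hW.fromSpec w (by
      rintro _ ⟨y, rfl⟩; rw [hW.range_fromSpec]; exact hwW.ge trivial)), by
      rw [Spec.map_preimage, IsOpenImmersion.lift_fac]⟩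
  have hαβ : α ≫ j = β ≫ πK := by
    refine Spec.map_injective ((cancel_mono hW.fromSpec).1 ?_)
    calc Spec.map (α ≫ j) ≫ hW.fromSpec = Spec.map j ≫ v := by
          rw [← hα]; exact (Spec.map_comp_assoc _ _ _)
      _ = Spec.map πK ≫ w := hv₁
      _ = Spec.map (β ≫ πK) ≫ hW.fromSpec := by
          rw [← hβ]; exact (Spec.map_comp_assoc _ _ _).symm
  have hrange : ∀ c, β.hom c ∈ (algebraMap A B).range := fun c => by
    obtain ⟨a, ha⟩ := Ideal.Quotient.mk_surjective (α.hom c)
    refine hmem _ a (Ideal.Quotient.eq.1 ?_)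
    have h1 : toResidue q hq (α.hom c) = IsLocalRing.residue B (β.hom c) := ConcreteCategory.congr_hom hαβ c
    rw [← ha] at h1
    exact h1.symm
  let e := RingEquiv.ofBijective (algebraMap A B).rangeRestrict
    ⟨fun x y hxy => hinj (congrArg Subtype.val hxy), (algebraMap A B).rangeRestrict_surjective⟩
  let γ : Γ(Q, W) ⟶ CommRingCat.of A :=
    CommRingCat.ofHom (e.symm.toRingHom.comp (β.hom.codRestrict (algebraMap A B).range hrange))
  have hγι : γ ≫ ι = β := by
    ext c
    show algebraMap A B (e.symm ⟨β.hom c, hrange c⟩) = β.hom c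
    exact congrArg Subtype.val (e.apply_symm_apply ⟨β.hom c, hrange c⟩)
  have hιh : Spec.map ι ≫ Spec.map γ ≫ hW.fromSpec = w := by rw [← Spec.map_comp_assoc, hγι, hβ]
  refine ⟨Spec.map γ ≫ hW.fromSpec, hom_ext_of_closedPoint hinj _ _ ?_ ?_, hιh⟩
  · have hγV : γ ≫ πV = α := by
      ext c
      refine toResidue_injective q hq ?_
      refine Eq.trans ?_ (ConcreteCategory.congr_hom hαβ c).symm
      exact congrArg (IsLocalRing.residue B) (ConcreteCategory.congr_hom hγι c)
    haveI : IsLocalHom (Ideal.Quotient.mk q) := IsLocalHom.of_surjective _ Ideal.Quotient.mk_surjective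
    have hA : (Spec.map πV) (IsLocalRing.closedPoint (A ⧸ q)) = IsLocalRing.closedPoint A :=
      IsLocalRing.comap_closedPoint (Ideal.Quotient.mk q)
    rw [← hA, ← Scheme.Hom.comp_apply, ← Scheme.Hom.comp_apply]
    congr 1
    rw [← hv₂, ← hα, ← hγV]
    simp
  · rw [← Category.assoc, hιh, hw]

end Groth.L13.LocalPair
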